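import Groth.Agent.LCZLib.Depth
import Groth.Agent.KFlatLib.Scheme.RpushQCoh
import Groth.Agent.QCoh.RpushProper

/-!
# Depth and the vanishing of local cohomology sheaves
-/

set_option autoImplicit false
set_option linter.style.haveILetI false
set_option backward.isDefEq.respectTransparency false
set_option backward.isDefEq.respectTransparency.types false

universe u

open CategoryTheory CategoryTheory.Limits AlgebraicGeometry TopologicalSpace Opposite

noncomputable section

namespace Groth.Agent.LCZLib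

open Groth.Agent.QCoh

variable {X : Scheme.{u}}

theorem depth_atPrime_ext {A : Type u} [CommRing A] {M : Type u} [AddCommGroup M] (m₁ m₂ : Module A M)
    (h : ∀ (r : A) (a : M), (letI := m₁; r • a) = (letI := m₂; r • a)) (p : Ideal A) [p.IsPrime] :
    (letI := m₁; LocCoh.depth (Localization.AtPrime p) (LocalizedModule p.primeCompl M)) =
      (letI := m₂; LocCoh.depth (Localization.AtPrime p) (LocalizedModule p.primeCompl M)) := by
  obtain rfl : m₁ = m₂ := Module.ext' _ _ h
  rfl

theorem depth_atPrime_congr {A : Type u} [CommRing A] (M : Type u) [AddCommGroup M] [Module A M]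
    {p q : Ideal A} (e : p = q) [p.IsPrime] [q.IsPrime] :
    LocCoh.depth (Localization.AtPrime p) (LocalizedModule p.primeCompl M) =
      LocCoh.depth (Localization.AtPrime q) (LocalizedModule q.primeCompl M) := by
  subst e; rfl

theorem depth_stalk_eq {M : X.Modules} (hM : Coh.IsQCoh M) {V : X.Opens} (hV : IsAffineOpen V) {x : X}
    (hx : x ∈ V) :
    LocCoh.depth (X.presheaf.stalk x) (M.presheaf.stalk x) =
      LocCoh.depth (Localization.AtPrime (hV.primeIdealOf ⟨x, hx⟩).asIdeal)
        (LocalizedModule (hV.primeIdealOf ⟨x, hx⟩).asIdeal.primeCompl Γ(M, V)) := by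
  letI := stalkAlg (X := X) hx
  letI := stalkModule M hx
  haveI := isScalarTower_stalk M hx
  haveI := isLocalization_stalk' hV hx
  haveI := isLocalizedModule_germLin hM hV hx
  exact Alg6.depth_localized_eq (hV.primeIdealOf ⟨x, hx⟩).asIdeal _ (germLin M hx)

theorem dep_restrict {M : X.Modules} (hM : Coh.IsQCoh M) (W : X.Opens) [IsAffine W.toScheme] (x : W.toScheme) :
    dep (M.restrict W.ι) x = LocCoh.depth (X.presheaf.stalk x.1) (M.presheaf.stalk x.1) := by
  have hW' : IsAffineOpen (W.ι ''ᵁ ⊤) := (isAffineOpen_top W.toScheme).image_of_isOpenImmersion W.ι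
  have hx : x.1 ∈ W.ι ''ᵁ ⊤ := ⟨x, trivial, rfl⟩
  rw [depth_stalk_eq hM hW' hx]
  have he : ((isAffineOpen_top W.toScheme).primeIdealOf ⟨x, trivial⟩).asIdeal =
      ((hW'.primeIdealOf ⟨x.1, hx⟩).asIdeal : Ideal Γ(W.toScheme, ⊤)) := by
    ext f
    refine not_iff_not.1 ?_
    refine (mem_basicOpen_iff_notMem (isAffineOpen_top W.toScheme) (x := x) trivial f).symm.trans
      (Iff.trans ?_ (mem_basicOpen_iff_notMem hW' hx f))
    have e := Scheme.image_basicOpen W.ι f
    rw [Scheme.Opens.ι_appIso, Iso.refl_inv] at e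
    replace e : W.ι ''ᵁ W.toScheme.basicOpen f = X.basicOpen (show Γ(X, W.ι ''ᵁ ⊤) from f) := e
    constructor
    · intro h
      exact e.le ⟨x, h, rfl⟩
    · intro h
      obtain ⟨y, hy, hyx⟩ := e.ge h
      exact (Subtype.ext hyx : y = x) ▸ hy
  refine (depth_atPrime_congr (A := Γ(W.toScheme, ⊤)) Γ(M.restrict W.ι, ⊤) he).trans ?_
  refine depth_atPrime_ext (A := Γ(X, W.ι ''ᵁ ⊤)) (M := Γ(M, W.ι ''ᵁ ⊤)) _ _ (fun r a => ?_) _
  refine congrArg (fun c : Γ(X, W.ι ''ᵁ ⊤) => c • a) (?_ : (W.ι.appIso ⊤).inv r = r)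
  rw [Scheme.Opens.ι_appIso, Iso.refl_inv]
  rfl

theorem isZero_iso_toAb_restrict (U W : X.Opens) (M : X.Modules) (i : ℕ) :
    IsZero ((CohTop.restrFunctor (X := X.toPresheafedSpace.carrier) W).obj
        ((LocCohZ.HZsh (X := X.toPresheafedSpace.carrier) U i).obj ((toAbFunctor X).obj M))) ↔
      IsZero ((LocCohZ.HZsh (X := W.toScheme.toPresheafedSpace.carrier) (W.ι ⁻¹ᵁ U) i).obj
        ((toAbFunctor W.toScheme).obj (M.restrict W.ι))) :=
  isZero_restr_HZsh_iff (X := X.toPresheafedSpace.carrier) U W ((toAbFunctor X).obj M) i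

/-- Local cohomology sheaves vanish below `n` iff the depth is at least `n` along `Z`. -/
theorem isZero_HZsh_iff_depth [IsLocallyNoetherian X] (U : X.Opens) (M : X.Modules) (hM : Coh.IsCoh M) (n : ℕ) :
    (∀ i, i < n → IsZero ((LocCohZ.HZsh (X := X.toPresheafedSpace.carrier) U i).obj ((toAbFunctor X).obj M))) ↔
      ∀ x : X, x ∉ (U : Set X) → (n : ℕ∞) ≤ LocCoh.depth (X.presheaf.stalk x) (M.presheaf.stalk x) := by
  have key : ∀ (W : X.Opens), IsAffineOpen W →
      ((∀ i, i < n → IsZero ((CohTop.restrFunctor (X := X.toPresheafedSpace.carrier) W).obj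
          ((LocCohZ.HZsh (X := X.toPresheafedSpace.carrier) U i).obj ((toAbFunctor X).obj M)))) ↔
        ∀ x : W.toScheme, x.1 ∉ U → (n : ℕ∞) ≤ LocCoh.depth (X.presheaf.stalk x.1) (M.presheaf.stalk x.1)) := by
    intro W hW
    haveI : IsAffine W.toScheme := hW
    haveI : IsLocallyNoetherian W.toScheme := isLocallyNoetherian_of_isOpenImmersion W.ι
    haveI : HasInjectiveResolutions W.toScheme.Modules := KFlatLib.hasInjectiveResolutions_modules
    have h := isZero_HZshM_iff_dep (W.ι ⁻¹ᵁ U) n (M.restrict W.ι) (isCoh_restrict_open hM)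
    simp only [← isZero_HZshM_iff, ← isZero_iso_toAb_restrict, dep_restrict hM.1] at h
    exact h
  constructor
  · intro h x hx
    obtain ⟨_, ⟨W, hW, rfl⟩, hxW, -⟩ := X.isBasis_affineOpens.exists_subset_of_mem_open (Set.mem_univ x) isOpen_univ
    exact (key W hW).1 (fun i hi => Functor.map_isZero _ (h i hi)) ⟨x, hxW⟩ hx
  · intro h i hi
    refine isZero_of_restr (X := X.toPresheafedSpace.carrier) _ fun x => ?_
    obtain ⟨_, ⟨W, hW, rfl⟩, hxW, -⟩ := X.isBasis_affineOpens.exists_subset_of_mem_open (Set.mem_univ x) isOpen_univ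
    exact ⟨W, hxW, (key W hW).2 (fun y hy => h y.1 hy) i hi⟩

end Groth.Agent.LCZLib

end
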