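import Groth.Agent.LCZLib.Seq

/-!
# The first non-vanishing local cohomology sheaf
-/

set_option autoImplicit false
set_option linter.style.haveILetI false

universe u

open CategoryTheory CategoryTheory.Limits Opposite TopologicalSpace TopCat Topology Abelian

noncomputable section

namespace Groth.Agent.LCZLib

variable {X : TopCat.{u}} (U : Opens X)

local notation "JX" => Opens.grothendieckTopology X

/-- Sheaves without sections supported in `Z` embed into injective ones without such sections. -/
theorem exists_mono_injective (F : CohTop.Ab X) (hF : IsZero ((LocCohZ.sectSuppF U).obj F)) :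
    ∃ (I : CohTop.Ab X) (ι : F ⟶ I), Mono ι ∧ Injective I ∧ IsZero ((LocCohZ.sectSuppF U).obj I) := by
  haveI : Mono ((unitU U).app F) := Preadditive.mono_of_kernel_zero (hF.eq_of_src (kernel.ι ((unitU U).app F)) 0)
  let K := Injective.under ((CohTop.pull (CohCx.incl U)).obj F)
  haveI : PreservesFiniteLimits (CohTop.push (CohCx.incl U)) := preservesFiniteLimits_push (CohCx.incl U)
  haveI : (CohTop.push (CohCx.incl U)).PreservesMonomorphisms := preservesMonomorphisms_of_preservesLimitsOfShape _
  refine ⟨(CohTop.push (CohCx.incl U)).obj K,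
    (unitU U).app F ≫ (CohTop.push (CohCx.incl U)).map (Injective.ι _), mono_comp _ _,
    SiteBase.injective_push (CohCx.incl U) K, ?_⟩
  have h1 : IsSplitMono ((unitU U).app ((CohTop.push (CohCx.incl U)).obj K)) :=
    ⟨⟨⟨(CohTop.push (CohCx.incl U)).map ((TopCat.Sheaf.pullbackPushforwardAdjunction AddCommGrpCat.{u} (CohCx.incl U)).counit.app K),
      (TopCat.Sheaf.pullbackPushforwardAdjunction AddCommGrpCat.{u} (CohCx.incl U)).right_triangle_components K⟩⟩⟩
  haveI : Mono ((unitU U).app ((CohTop.push (CohCx.incl U)).obj K)) := by haveI := h1; infer_instance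
  exact isZero_kernel_of_mono _

/-- Below the first non-vanishing local cohomology sheaf there is no cohomology with supports, and in
that degree it is the group of sections of the sheaf. -/
theorem local_global (n : ℕ) : ∀ (F : CohTop.Ab X),
    (∀ i, i < n → IsZero ((LocCohZ.HZsh U i).obj F)) →
    ∀ V : Opens X, Nonempty ((((LocCohZ.HZsh U n).obj F).obj.obj (op V)) ≃+
        LocCohZ.HZ F n (inf_le_right : U ⊓ V ≤ V)) := by
  induction n with
  | zero =>
    intro F _ V
    refine ⟨?_⟩
    exact ((((sheafToPresheaf JX AddCommGrpCat.{u}) ⋙ (evaluation (Opens X)ᵒᵖ AddCommGrpCat.{u}).obj (op V)).mapIso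
      ((LocCohZ.sectSuppF U).rightDerivedZeroIsoSelf.app F)).addCommGroupIsoToAddEquiv.trans
        (suppEquiv U F V).symm).trans Ext.addEquiv₀.symm
  | succ n ih =>
    intro F hF V
    have h0 : IsZero ((LocCohZ.sectSuppF U).obj F) :=
      IsZero.of_iso (hF 0 (Nat.succ_pos n)) ((LocCohZ.sectSuppF U).rightDerivedZeroIsoSelf.app F).symm
    obtain ⟨I, ι, hι, hI, hI0⟩ := exists_mono_injective U F h0
    let S := ShortComplex.mk ι (cokernel.π ι) (cokernel.condition ι)
    have hS : S.ShortExact := { exact := ShortComplex.exact_of_g_is_cokernel _ (cokernelIsCokernel ι) }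
    have hRI : ∀ i, IsZero ((LocCohZ.HZsh U i).obj I) := fun i => by
      cases i with
      | zero => exact IsZero.of_iso hI0 ((LocCohZ.sectSuppF U).rightDerivedZeroIsoSelf.app I)
      | succ k => exact (LocCohZ.sectSuppF U).isZero_rightDerived_obj_injective_succ k I
    let L := SESResLib.derivedLES (LocCohZ.sectSuppF U)
    have hiso : ∀ i, IsIso (L.δ S hS i (i + 1) rfl) := fun i => by
      haveI : Mono (L.δ S hS i (i + 1) rfl) := (L.exact₃ S hS i (i + 1) rfl).mono_g ((hRI i).eq_of_src _ _)
      haveI : Epi (L.δ S hS i (i + 1) rfl) := (L.exact₁ S hS i (i + 1) rfl).epi_f ((hRI (i + 1)).eq_of_tgt _ _)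
      exact isIso_of_mono_of_epi _
    obtain ⟨e⟩ := ih S.X₃ (fun i hi => (hF (i + 1) (by omega)).of_iso (@asIso _ _ _ _ _ (hiso i))) V
    have hH : ∀ i, Subsingleton (LocCohZ.HZ I i (inf_le_right : U ⊓ V ≤ V)) := fun i => by
      cases i with
      | zero =>
        haveI : Subsingleton (((LocCohZ.sectSuppF U).obj I).obj.obj (op V)) :=
          AddCommGrpCat.subsingleton_of_isZero
            (((sheafToPresheaf JX AddCommGrpCat.{u}) ⋙ (evaluation (Opens X)ᵒᵖ AddCommGrpCat.{u}).obj (op V)).map_isZero hI0)
        haveI : Subsingleton ((PZ U).obj V ⟶ I) := (suppEquiv U I V).injective.subsingleton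
        exact (Ext.addEquiv₀ (X := (PZ U).obj V) (Y := I)).injective.subsingleton
      | succ k => exact subsingleton_of_forall_eq 0 fun x => Ext.eq_zero_of_injective x
    have hbij : Function.Bijective
        (hS.extClass.postcomp (LocCohZ.zq (inf_le_right : U ⊓ V ≤ V)) (rfl : n + 1 = n + 1)) := by
      refine ⟨(injective_iff_map_eq_zero _).2 fun x hx => ?_, fun y => ?_⟩
      · obtain ⟨z, rfl⟩ := Ext.covariant_sequence_exact₃ _ hS x rfl hx
        rw [@Subsingleton.elim _ (hH n) z 0, Ext.zero_comp]
      · exact Ext.covariant_sequence_exact₁ _ hS y (@Subsingleton.elim _ (hH (n + 1)) _ _) rfl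
    haveI := hiso n
    exact ⟨((((sheafToPresheaf JX AddCommGrpCat.{u}) ⋙ (evaluation (Opens X)ᵒᵖ AddCommGrpCat.{u}).obj (op V)).mapIso
      (asIso (L.δ S hS n (n + 1) rfl)).symm).addCommGroupIsoToAddEquiv.trans e).trans (AddEquiv.ofBijective _ hbij)⟩

/-- Vanishing of local cohomology sheaves is vanishing of cohomology with supports on every open. -/
theorem isZero_HZsh_iff (F : CohTop.Ab X) (n : ℕ) :
    (∀ i, i < n → IsZero ((LocCohZ.HZsh U i).obj F)) ↔
      ∀ (V : Opens X) (i : ℕ), i < n → Subsingleton (LocCohZ.HZ F i (inf_le_right : U ⊓ V ≤ V)) := by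
  refine ⟨fun h V i hi => ?_, fun h i hi => isZero_HZsh_of_subsingleton U F i fun V => h V i hi⟩
  obtain ⟨e⟩ := local_global U i F (fun j hj => h j (hj.trans hi)) V
  haveI : Subsingleton ((((LocCohZ.HZsh U i).obj F).obj.obj (op V)) : Type u) :=
    AddCommGrpCat.subsingleton_of_isZero
      (((sheafToPresheaf JX AddCommGrpCat.{u}) ⋙ (evaluation (Opens X)ᵒᵖ AddCommGrpCat.{u}).obj (op V)).map_isZero (h i hi))
  exact e.symm.injective.subsingleton

end Groth.Agent.LCZLib

end
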