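import Groth.Agent.LCZLib.Restr
import Groth.Agent.SiteBase.Horseshoe
import Groth.Agent.Alg6.AssDepth
import Groth.Agent.Alg6.LocLoc
import Groth.Agent.LC.AdjDepth
import Groth.Agent.QCoh.Stalk
import Groth.Agent.QCoh.Support

/-!
# Depth and the vanishing of local cohomology sheaves on affine schemes
-/

set_option autoImplicit false
set_option linter.style.haveILetI false
set_option backward.isDefEq.respectTransparency false
set_option backward.isDefEq.respectTransparency.types false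

universe v₁ v₂ u₁ u₂ u

open CategoryTheory CategoryTheory.Limits AlgebraicGeometry TopologicalSpace Opposite

noncomputable section

namespace Groth.Agent.LCZLib

section Derived

variable {C : Type u₁} [Category.{v₁} C] [Abelian C] [EnoughInjectives C]
  {D : Type u₂} [Category.{v₂} D] [Abelian D] (F : C ⥤ D) [F.Additive]

/-- A natural endomorphism of the identity carried by `F` is carried by its derived functors. -/
theorem rightDerived_map_end (φ : 𝟭 C ⟶ 𝟭 C) (ψ : 𝟭 D ⟶ 𝟭 D)
    (h : ∀ X, F.map (φ.app X) = ψ.app (F.obj X)) (n : ℕ) (X : C) :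
    (F.rightDerived n).map (φ.app X) = ψ.app ((F.rightDerived n).obj X) := by
  let I := injectiveResolution X
  let Φ : I.cocomplex ⟶ I.cocomplex :=
    { f := fun i => φ.app _, comm' := fun i j _ => (φ.naturality (I.cocomplex.d i j)).symm }
  have hc : I.ι.f 0 ≫ Φ.f 0 = φ.app X ≫ I.ι.f 0 := φ.naturality (I.ι.f 0)
  have h1 := InjectiveResolution.isoRightDerivedObj_hom_naturality (φ.app X) I I Φ hc F n
  let K := (F.mapHomologicalComplex (ComplexShape.up ℕ)).obj I.cocomplex
  have hcyc : HomologicalComplex.cyclesMap ((F.mapHomologicalComplex (ComplexShape.up ℕ)).map Φ) n =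
      ψ.app (K.cycles n) := by
    rw [← cancel_mono (K.iCycles n), HomologicalComplex.cyclesMap_i]
    refine Eq.trans ?_ (ψ.naturality (K.iCycles n))
    exact congrArg (K.iCycles n ≫ ·) (h _)
  have h2 : (F.mapHomologicalComplex _ ⋙ HomologicalComplex.homologyFunctor _ _ n).map Φ =
      ψ.app (K.homology n) := by
    show HomologicalComplex.homologyMap ((F.mapHomologicalComplex (ComplexShape.up ℕ)).map Φ) n = _
    rw [← cancel_epi (K.homologyπ n), HomologicalComplex.homologyπ_naturality, hcyc]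
    exact (ψ.naturality (K.homologyπ n)).symm
  rw [h2] at h1
  rw [← cancel_mono (I.isoRightDerivedObj F n).hom, h1]
  exact ψ.naturality (I.isoRightDerivedObj F n).hom

end Derived

open Groth.Agent.QCoh Groth.Agent.SuppFamLib
open scoped Pointwise

variable {X : Scheme.{u}}

/-- Multiplication by a global function. -/
def smulHom (f : Γ(X, ⊤)) (M : X.Modules) : M ⟶ M where
  val :=
    { app := fun V => ModuleCat.ofHom
        { toFun := fun s => rf X (le_top : V.unop ≤ ⊤) f • (show Γ(M, V.unop) from s)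
          map_add' := fun a b => smul_add _ _ _
          map_smul' := fun r s => smul_comm (rf X (le_top : V.unop ≤ ⊤) f) (show Γ(X, V.unop) from r)
            (show Γ(M, V.unop) from s) }
      naturality := fun {V V'} i => by
        ext s
        show rf X (le_top : V'.unop ≤ ⊤) f • rs M (leOfHom i.unop) s =
          rs M (leOfHom i.unop) (rf X (le_top : V.unop ≤ ⊤) f • s)
        rw [rs_smul, rf_rf] }

theorem smulHom_app (f : Γ(X, ⊤)) (M : X.Modules) (V : X.Opens) (s : Γ(M, V)) :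
    (smulHom f M).app V s = rf X (le_top : V ≤ ⊤) f • s := rfl

/-- Multiplication by a global function, as a natural endomorphism. -/
def smulNat (f : Γ(X, ⊤)) : 𝟭 X.Modules ⟶ 𝟭 X.Modules where
  app := smulHom f
  naturality M N φ := by
    refine Scheme.Modules.hom_ext _ _ fun V => ?_
    ext s
    exact (φ.app_smul (rf X (le_top : V ≤ ⊤) f) s).symm

theorem gammaZ_map_smulHom {U : Scheme.{u}} (j : U ⟶ X) [IsOpenImmersion j] (f : Γ(X, ⊤)) (M : X.Modules) :
    (DCoh.gammaZ j).map (smulHom f M) = smulHom f ((DCoh.gammaZ j).obj M) := by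
  apply equalizer.hom_ext
  refine (kernel.lift_ι _ _ _).trans ?_
  exact ((smulNat f).naturality (kernel.ι ((Scheme.Modules.restrictAdjunction j).unit.app M)))

section Affine

variable (U : X.Opens)

theorem eq_zero_gm {M : X.Modules} {V : X.Opens} (hV : V ≤ U) (s : Γ(gm (hj U.ι) M, V)) : s = 0 := by
  refine sec_injective (hj U.ι) M V ?_
  rw [map_zero]
  have h1 : ⊤ ⊓ V ≤ U.ι.opensRange ⊓ V := le_inf (inf_le_right.trans (hV.trans U.opensRange_ι.ge)) inf_le_right
  rw [← rs_self le_rfl (sec (hj U.ι) M V s), ← rs_rs (inf_le_inf_right V (hj U.ι)) h1, sec_mem, rs_zero]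

theorem eq_zero_of_iso {A B : X.Modules} (e : A ≅ B) {V : X.Opens} (h : ∀ s : Γ(B, V), s = 0) (s : Γ(A, V)) :
    s = 0 := by
  have h1 : e.inv.app V (e.hom.app V s) = s := congr(($(e.hom_inv_id)).app V s)
  rw [← h1, h (e.hom.app V s), map_zero]

variable [HasInjectiveResolutions X.Modules]

theorem eq_zero_HZshM {M : X.Modules} (q : ℕ) {V : X.Opens} (hV : V ≤ U)
    (s : Γ((LocCohZ.HZshM U.ι q).obj M, V)) : s = 0 := by
  haveI := SpObjSS.enoughInjectives_of_hasInjectiveResolutions (C := X.Modules)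
  haveI := preservesFiniteLimits_gammaZ U.ι
  cases q with
  | zero =>
    exact eq_zero_of_iso ((DCoh.gammaZ U.ι).rightDerivedZeroIsoSelf.app M ≪≫ (asIso (gmHom U.ι M)).symm)
      (fun t => eq_zero_gm U hV t) s
  | succ k =>
    obtain ⟨e⟩ := nonempty_HZshM_iso_gm U.ι M k
    refine eq_zero_of_iso e (fun t => eq_zero_of_locally V t fun p hp => ?_) s
    obtain ⟨W, i, hpW, a, ha⟩ := exists_local_preimage (cokernel.π (gmMap (hj U.ι) (godπ M k))) t hp
    exact ⟨W, homOfLE i, hpW, ha.symm.trans (by rw [eq_zero_gm U (i.trans hV) a, map_zero])⟩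

/-- Injectivity of multiplication by an equation of the support forces vanishing. -/
theorem isZero_HZshM_of_mono [IsLocallyNoetherian X] {M : X.Modules} (hM : Coh.IsQCoh M) (q : ℕ)
    (f : Γ(X, ⊤)) (hf : X.basicOpen f ≤ U) [Mono (smulHom f ((LocCohZ.HZshM U.ι q).obj M))] :
    IsZero ((LocCohZ.HZshM U.ι q).obj M) := by
  let N := (LocCohZ.HZshM U.ι q).obj M
  have hN : Coh.IsQCoh N := isQCoh_HZshM U.ι M hM q
  refine (IsZero.iff_id_eq_zero N).2 (Scheme.Modules.hom_ext _ _ fun V => ?_)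
  ext s
  show s = 0
  refine eq_zero_of_locally V s fun p hp => ?_
  obtain ⟨_, ⟨W, hW, rfl⟩, hpW, hWV⟩ :=
    X.isBasis_affineOpens.exists_subset_of_mem_open (u := (V : Set X)) hp V.isOpen
  refine ⟨W, homOfLE hWV, hpW, ?_⟩
  let t : Γ(N, W) := rs N hWV s
  show t = 0
  let g : Γ(X, W) := rf X (le_top : W ≤ ⊤) f
  have hg : X.basicOpen g ≤ U := (X.basicOpen_res f (homOfLE (le_top : W ≤ ⊤)).op).le.trans (inf_le_right.trans hf)
  obtain ⟨n, hn⟩ := (locInj_and_locSurj (h := g) hN (IsAffineOpen.isQuasiSeparated hW) 0 W le_rfl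
    (IsAffineOpen.isCompact hW)).1 t (by
      refine (Submodule.mem_bot _).2 ?_
      exact eq_zero_HZshM U q (V := W ⊓ X.basicOpen g) (inf_le_right.trans hg) (rs N inf_le_left t))
  replace hn : rf X le_rfl g ^ n • t = 0 := (Submodule.mem_bot _).1 hn
  have hinj : ∀ y : Γ(N, W), g • y = 0 → y = 0 := fun y hy =>
    app_injective (smulHom f N) W (hy.trans (map_zero _).symm)
  have hg' : rf X le_rfl g = g := congr($(X.presheaf.map_id _) g)
  rw [hg'] at hn
  induction n with
  | zero => rwa [pow_zero, one_smul] at hn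
  | succ n ih => exact ih (hinj _ (by rwa [← mul_smul, ← pow_succ']))

end Affine

section IsAffine

variable [IsAffine X] [IsLocallyNoetherian X] [HasInjectiveResolutions X.Modules] (U : X.Opens)

omit [HasInjectiveResolutions X.Modules] in
theorem exists_ideal : ∃ I : Ideal Γ(X, ⊤), ∀ x : X,
    I ≤ ((isAffineOpen_top X).primeIdealOf ⟨x, trivial⟩).asIdeal ↔ x ∉ U := by
  have hU := isAffineOpen_top X
  obtain ⟨I, hI⟩ := (PrimeSpectrum.isClosed_iff_zeroLocus_ideal (hU.fromSpec ⁻¹' (U : Set X)ᶜ)).mp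
    (U.isOpen.isClosed_compl.preimage hU.fromSpec.continuous)
  refine ⟨I, fun x => ?_⟩
  have : hU.primeIdealOf ⟨x, trivial⟩ ∈ hU.fromSpec ⁻¹' (U : Set X)ᶜ ↔ x ∉ U := by
    rw [Set.mem_preimage, hU.fromSpec_primeIdealOf]
    rfl
  rw [← this, hI]
  exact Iff.rfl

/-- Depth of the localisation of the global sections at a point. -/
abbrev dep (M : X.Modules) (x : X) : ℕ∞ :=
  LocCoh.depth (Localization.AtPrime ((isAffineOpen_top X).primeIdealOf ⟨x, trivial⟩).asIdeal)
    (LocalizedModule ((isAffineOpen_top X).primeIdealOf ⟨x, trivial⟩).asIdeal.primeCompl Γ(M, ⊤))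

omit [IsLocallyNoetherian X] [HasInjectiveResolutions X.Modules] in
theorem dep_eq {M : X.Modules} (hM : Coh.IsQCoh M) (x : X) :
    LocCoh.depth (X.presheaf.stalk x) (M.presheaf.stalk x) = dep M x := by
  let hU := isAffineOpen_top X
  letI := stalkAlg (X := X) (x := x) (U := ⊤) trivial
  letI := stalkModule M (x := x) (U := ⊤) trivial
  haveI := isScalarTower_stalk M (x := x) (U := ⊤) trivial
  haveI := isLocalization_stalk' hU (x := x) trivial
  haveI := isLocalizedModule_germLin hM hU (x := x) trivial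
  exact Alg6.depth_localized_eq (hU.primeIdealOf ⟨x, trivial⟩).asIdeal _ (germLin M (x := x) (U := ⊤) trivial)

omit [HasInjectiveResolutions X.Modules] in
/-- A regular element vanishing on `Z` when the associated points avoid `Z`. -/
theorem exists_regular {M : X.Modules} (hM : Coh.IsCoh M) (h : ∀ x, x ∉ U → 1 ≤ dep M x) :
    ∃ f : Γ(X, ⊤), X.basicOpen f ≤ U ∧ IsSMulRegular Γ(M, ⊤) f ∧
      ∀ x, x ∉ U → f ∈ ((isAffineOpen_top X).primeIdealOf ⟨x, trivial⟩).asIdeal := by
  haveI : IsNoetherianRing Γ(X, ⊤) := IsLocallyNoetherian.component_noetherian ⟨⊤, isAffineOpen_top X⟩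
  haveI := finite_of_isFT hM.1 hM.2 (isAffineOpen_top X)
  obtain ⟨I, hI⟩ := exists_ideal U
  obtain ⟨f, hfI, hf⟩ := (Alg6.exists_isSMulRegular_mem_iff (M := Γ(M, ⊤)) I).mpr fun p hp hle => by
    haveI := IsAssociatedPrime.isPrime hp
    obtain ⟨x, hxt, hx⟩ := exists_point (isAffineOpen_top X) ⟨p, inferInstance⟩
    have hxp : ((isAffineOpen_top X).primeIdealOf ⟨x, trivial⟩).asIdeal = p := congrArg PrimeSpectrum.asIdeal hx
    refine (Alg6.one_le_depth_atPrime_iff _).1 (h x ((hI x).1 (hxp ▸ hle))) ?_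
    rw [hxp]
    exact hp
  refine ⟨f, fun x hx => ?_, hf, fun x hx => (hI x).2 hx hfI⟩
  by_contra hxU
  exact (mem_basicOpen_iff_notMem (isAffineOpen_top X) (x := x) trivial f).1 hx ((hI x).2 hxU hfI)

/-- No supported sections means no associated point in `Z`. -/
theorem one_le_dep {M : X.Modules} (hM : Coh.IsCoh M) (h0 : IsZero ((LocCohZ.HZshM U.ι 0).obj M)) (x : X)
    (hx : x ∉ U) : 1 ≤ dep M x := by
  haveI := SpObjSS.enoughInjectives_of_hasInjectiveResolutions (C := X.Modules)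
  haveI := preservesFiniteLimits_gammaZ U.ι
  haveI : IsNoetherianRing Γ(X, ⊤) := IsLocallyNoetherian.component_noetherian ⟨⊤, isAffineOpen_top X⟩
  haveI := finite_of_isFT hM.1 hM.2 (isAffineOpen_top X)
  let p := (isAffineOpen_top X).primeIdealOf ⟨x, trivial⟩
  refine (Alg6.one_le_depth_atPrime_iff p.asIdeal).2 fun hass => ?_
  obtain ⟨hp, m, hm⟩ := isAssociatedPrime_iff.mp hass
  obtain ⟨I, hI⟩ := exists_ideal U
  have hIp : I ≤ p.asIdeal := (hI x).2 hx
  have hkill : ∀ c ∈ p.asIdeal, c • m = 0 := fun c hc => by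
    rw [hm, Submodule.mem_colon_singleton, Submodule.mem_bot] at hc
    exact hc
  have hm0 : m ≠ 0 := by
    intro h
    refine p.isPrime.ne_top ((Ideal.eq_top_iff_one _).2 ?_)
    rw [hm, Submodule.mem_colon_singleton, Submodule.mem_bot, h, smul_zero]
  have hz : rs M (le_top : U ≤ ⊤) m = 0 := by
    refine eq_zero_of_locally U _ fun y hy => ?_
    have hy' : ¬ I ≤ ((isAffineOpen_top X).primeIdealOf ⟨y, trivial⟩).asIdeal := fun h => (hI y).1 h hy
    obtain ⟨c, hcI, hcy⟩ := SetLike.not_le_iff_exists.1 hy'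
    have hyc : y ∈ X.basicOpen c := (mem_basicOpen_iff_notMem (isAffineOpen_top X) (x := y) trivial c).2 hcy
    refine ⟨U ⊓ X.basicOpen c, homOfLE inf_le_left, ⟨hy, hyc⟩, ?_⟩
    show rs M (inf_le_left : U ⊓ X.basicOpen c ≤ U) (rs M le_top m) = 0
    have hu : IsUnit (rf X (le_top : U ⊓ X.basicOpen c ≤ ⊤) c) := by
      rw [← rf_rf (X.basicOpen_le c) (inf_le_right : U ⊓ X.basicOpen c ≤ X.basicOpen c)]
      exact (X.toRingedSpace.isUnit_res_basicOpen c).map _
    rw [rs_rs, ← hu.smul_left_cancel, smul_zero, ← rs_smul, hkill c (hIp hcI), rs_zero]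
  obtain ⟨s, hs⟩ := exists_sec (hj U.ι) (rs M (le_top : ⊤ ⊓ (⊤ : X.Opens) ≤ ⊤) m) (by
    rw [rs_rs, ← rs_rs (le_top : U ≤ ⊤) ((inf_le_left : U.ι.opensRange ⊓ ⊤ ≤ _).trans U.opensRange_ι.le), hz, rs_zero])
  have hgm : IsZero (gm (hj U.ι) M) :=
    h0.of_iso ((asIso (gmHom U.ι M)) ≪≫ ((DCoh.gammaZ U.ι).rightDerivedZeroIsoSelf.app M).symm)
  have hs0 : s = 0 := congr(($((IsZero.iff_id_eq_zero _).1 hgm)).app ⊤ s)
  rw [hs0, map_zero] at hs
  refine hm0 ?_
  rw [← rs_self le_rfl m, ← rs_rs (le_top : ⊤ ⊓ (⊤ : X.Opens) ≤ ⊤) (le_inf le_rfl le_rfl), ← hs, rs_zero]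

/-- The quotient by a regular function. -/
theorem exists_quot {M : X.Modules} (hM : Coh.IsCoh M) {f : Γ(X, ⊤)} (hf : IsSMulRegular Γ(M, ⊤) f) :
    ∃ (Q : X.Modules) (g : M ⟶ Q) (w : smulHom f M ≫ g = 0), Coh.IsCoh Q ∧
      (ShortComplex.mk (smulHom f M) g w).ShortExact ∧
      ∀ x : X, f ∈ ((isAffineOpen_top X).primeIdealOf ⟨x, trivial⟩).asIdeal → dep Q x + 1 = dep M x := by
  haveI : IsNoetherianRing Γ(X, ⊤) := IsLocallyNoetherian.component_noetherian ⟨⊤, isAffineOpen_top X⟩
  haveI := finite_of_isFT hM.1 hM.2 (isAffineOpen_top X)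
  have hQ : Coh.IsCoh (cokernel (smulHom f M)) := isCoh_cokernel hM.1 hM (smulHom f M)
  haveI : Mono (smulHom f M) := by
    refine mono_of_isBasis (smulHom f M) X.isBasis_affineOpens fun W hW => ?_
    refine (injective_iff_map_eq_zero _).2 fun s hs => ?_
    rw [smulHom_app] at hs
    refine eq_zero_of_locally W s fun p hp => ?_
    obtain ⟨c, hc, hpc⟩ := (isAffineOpen_top X).exists_basicOpen_le (V := W) ⟨p, hp⟩ trivial
    refine ⟨X.basicOpen c, homOfLE hc, hpc, ?_⟩
    show rs M hc s = 0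
    obtain ⟨n, t, ht⟩ := exists_pow_smul_eq_map hM.1 (isAffineOpen_top X) c (rs M hc s)
    replace ht : rs M (X.basicOpen_le c) t = rf X (X.basicOpen_le c) c ^ n • rs M hc s := ht
    obtain ⟨k, hk⟩ := (locInj_and_locSurj (h := c) hM.1 (IsAffineOpen.isQuasiSeparated (isAffineOpen_top X)) 0 ⊤
      le_rfl (IsAffineOpen.isCompact (isAffineOpen_top X))).1 (f • t) (by
        refine (Submodule.mem_bot _).2 ?_
        show rs M (inf_le_left : ⊤ ⊓ X.basicOpen c ≤ ⊤) (f • t) = 0
        rw [← rs_rs (X.basicOpen_le c) (inf_le_right : ⊤ ⊓ X.basicOpen c ≤ X.basicOpen c), rs_smul, ht, smul_comm,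
          ← rf_rf (le_top : W ≤ ⊤) hc f, ← rs_smul, hs, rs_zero, smul_zero, rs_zero])
    replace hk : rf X le_rfl c ^ k • (f • t) = 0 := (Submodule.mem_bot _).1 hk
    rw [smul_comm] at hk
    have hk' : rf X le_rfl c ^ k • t = 0 := hf (hk.trans (smul_zero f).symm)
    have hu : IsUnit (rf X (X.basicOpen_le c) c) := X.toRingedSpace.isUnit_res_basicOpen c
    have hk'' := congrArg (rs M (X.basicOpen_le c)) hk'
    rw [rs_zero, rf_pow_smul_rs, ht, (hu.pow k).smul_eq_zero, (hu.pow n).smul_eq_zero] at hk''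
    exact hk''
  refine ⟨cokernel (smulHom f M), cokernel.π _, cokernel.condition _, hQ,
    { exact := ShortComplex.exact_of_g_is_cokernel _ (cokernelIsCokernel _) }, fun x hx => ?_⟩
  let g : Γ(M, ⊤) →ₗ[Γ(X, ⊤)] Γ(cokernel (smulHom f M), ⊤) := appLin (cokernel.π (smulHom f M)) ⊤
  have hg : Function.Surjective g :=
    app_surjective_of_epi hM.1 hQ.1 (cokernel.π (smulHom f M)) (isAffineOpen_top X)
  have hrf : rf X (le_top : (⊤ : X.Opens) ≤ ⊤) f = f := congr($(X.presheaf.map_id _) f)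
  have hker : LinearMap.ker g = f • (⊤ : Submodule Γ(X, ⊤) Γ(M, ⊤)) := by
    ext m
    rw [LinearMap.mem_ker, Submodule.mem_smul_pointwise_iff_exists]
    refine Iff.trans (mem_range_iff_cokernel (smulHom f M) ⊤ m) ?_
    refine ⟨fun ⟨y, hy⟩ => ⟨y, trivial, ?_⟩, fun ⟨y, _, hy⟩ => ⟨y, ?_⟩⟩
    · rw [← hy]; exact (congrArg (· • y) hrf).symm
    · rw [← hy]; exact congrArg (· • y) hrf
  let e : QuotSMulTop f Γ(M, ⊤) ≃ₗ[Γ(X, ⊤)] Γ(cokernel (smulHom f M), ⊤) :=
    (Submodule.quotEquivOfEq _ _ hker.symm).trans (g.quotKerEquivOfSurjective hg)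
  refine Eq.trans (congrArg (· + 1) ?_) (LC.depth_localized_quot_add_one (M := Γ(M, ⊤)) _ hx hf)
  haveI := finite_of_isFT hQ.1 hQ.2 (isAffineOpen_top X)
  exact LC.depth_localized_congr _ _
    (IsLocalizedModule.mapEquiv ((isAffineOpen_top X).primeIdealOf ⟨x, trivial⟩).asIdeal.primeCompl
      (LocalizedModule.mkLinearMap _ _) (LocalizedModule.mkLinearMap _ _)
      (Localization.AtPrime _) e.symm)

/-- Vanishing below `n` and depth at least `n`, on affine schemes. -/
theorem isZero_HZshM_iff_dep (n : ℕ) : ∀ (M : X.Modules), Coh.IsCoh M →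
    ((∀ i, i < n → IsZero ((LocCohZ.HZshM U.ι i).obj M)) ↔ ∀ x, x ∉ U → (n : ℕ∞) ≤ dep M x) := by
  haveI := SpObjSS.enoughInjectives_of_hasInjectiveResolutions (C := X.Modules)
  haveI := preservesFiniteLimits_gammaZ U.ι
  induction n with
  | zero => exact fun M _ => ⟨fun _ x _ => by simp, fun _ i hi => absurd hi (Nat.not_lt_zero i)⟩
  | succ n ih =>
    intro M hM
    have key : ∀ f, IsSMulRegular Γ(M, ⊤) f → X.basicOpen f ≤ U →
        ∀ (Q : X.Modules) (g : M ⟶ Q) (w : smulHom f M ≫ g = 0),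
          (ShortComplex.mk (smulHom f M) g w).ShortExact →
          ((∀ i, i < n + 1 → IsZero ((LocCohZ.HZshM U.ι i).obj M)) ↔
            ∀ i, i < n → IsZero ((LocCohZ.HZshM U.ι i).obj Q)) := by
      intro f _ hfU Q g w hS
      let S := ShortComplex.mk (smulHom f M) g w
      let L := SESResLib.derivedLES (DCoh.gammaZ U.ι)
      have hder : ∀ i, ((DCoh.gammaZ U.ι).rightDerived i).map S.f = smulHom f ((LocCohZ.HZshM U.ι i).obj M) :=
        fun i => rightDerived_map_end (DCoh.gammaZ U.ι) (smulNat f) (smulNat f)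
          (fun A => gammaZ_map_smulHom U.ι f A) i M
      refine ⟨fun h i hi => ?_, fun h => ?_⟩
      · exact (L.exact₃ S hS i (i + 1) rfl).isZero_of_both_zeros ((h i (by omega)).eq_of_src _ _)
          ((h (i + 1) (by omega)).eq_of_tgt _ _)
      · intro i hi
        haveI : Mono (smulHom f ((LocCohZ.HZshM U.ι i).obj M)) := by
          rw [← hder]
          cases i with
          | zero =>
            haveI : Mono S.f := hS.mono_f
            haveI : (DCoh.gammaZ U.ι).PreservesMonomorphisms := preservesMonomorphisms_of_preservesLimitsOfShape _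
            rw [← NatIso.naturality_2 (DCoh.gammaZ U.ι).rightDerivedZeroIsoSelf S.f]
            exact inferInstance
          | succ k => exact (L.exact₁ S hS k (k + 1) rfl).mono_g ((h k (by omega)).eq_of_src _ _)
        exact isZero_HZshM_of_mono U hM.1 i f hfU
    constructor
    · intro h x hx
      have h1 : ∀ y, y ∉ U → 1 ≤ dep M y := fun y hy => one_le_dep U hM (h 0 (by omega)) y hy
      obtain ⟨f, hfU, hreg, hfZ⟩ := exists_regular U hM h1
      obtain ⟨Q, g, w, hQ, hS, hd⟩ := exists_quot hM hreg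
      rw [← hd x (hfZ x hx), Nat.cast_add, Nat.cast_one]
      exact add_le_add ((ih Q hQ).1 ((key f hreg hfU Q g w hS).1 h) x hx) le_rfl
    · intro h
      have h1 : ∀ y, y ∉ U → 1 ≤ dep M y := fun y hy => le_trans (by simp) (h y hy)
      obtain ⟨f, hfU, hreg, hfZ⟩ := exists_regular U hM h1
      obtain ⟨Q, g, w, hQ, hS, hd⟩ := exists_quot hM hreg
      refine (key f hreg hfU Q g w hS).2 ((ih Q hQ).2 fun x hx => ?_)
      have := h x hx
      rw [← hd x (hfZ x hx), Nat.cast_add, Nat.cast_one] at this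
      exact (ENat.add_le_add_iff_right ENat.one_ne_top).1 this

end IsAffine

end Groth.Agent.LCZLib

end
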