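import Groth.Prelude.Def_LocCohZ
import Groth.Agent.SuppFamLib.QCoh
import Groth.Agent.QCoh.RpushGod

/-!
# Quasi-coherence of the local cohomology sheaves of O-modules
-/

set_option autoImplicit false
set_option linter.style.haveILetI false
set_option backward.isDefEq.respectTransparency false
set_option backward.isDefEq.respectTransparency.types false

universe u

open CategoryTheory CategoryTheory.Limits AlgebraicGeometry TopologicalSpace Opposite

noncomputable section

namespace Groth.Agent.LCZLib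

open Groth.Agent.QCoh Groth.Agent.SuppFamLib

variable {U Y : Scheme.{u}} (j : U ⟶ Y) [IsOpenImmersion j]

/-- The open `U` inside `⊤`. -/
abbrev hj : j.opensRange ≤ (⊤ : Y.Opens) := le_top

theorem unit_app_eq (M : Y.Modules) (V : Y.Opens) (s : Γ(M, V)) :
    ((Scheme.Modules.restrictAdjunction j).unit.app M).app V s = rs M (j.image_preimage_le V) s :=
  congr($(Scheme.Modules.restrictAdjunction_unit_app_app j M V) s)

theorem img_le (V : Y.Opens) : j ''ᵁ (j ⁻¹ᵁ V) ≤ j.opensRange ⊓ V :=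
  (j.image_preimage_eq_opensRange_inf V).le

theorem le_img (V : Y.Opens) : j.opensRange ⊓ V ≤ j ''ᵁ (j ⁻¹ᵁ V) :=
  (j.image_preimage_eq_opensRange_inf V).ge

theorem le_top_inf (V : Y.Opens) : V ≤ ⊤ ⊓ V := le_inf le_top le_rfl

/-- The inclusion of the sections supported outside `U`. -/
def gmIncl (M : Y.Modules) : gm (hj j) M ⟶ M where
  val :=
    { app := fun V => ModuleCat.ofHom
        { toFun := fun s => rs M (le_top_inf V.unop) (sec (hj j) M V.unop s)
          map_add' := fun a b => by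
            show rs M _ (sec (hj j) M V.unop (a + b)) = _
            rw [map_add, rs_add]
          map_smul' := fun r s => by
            show rs M _ (sec (hj j) M V.unop ((show Γ(Y, V.unop) from r) • s)) =
              (show Γ(Y, V.unop) from r) • rs M _ (sec (hj j) M V.unop s)
            rw [sec_smul, rs_smul, rf_rf]
            congr 1
            exact congr($(Y.presheaf.map_id V) r) }
      naturality := fun {V V'} i => by
        ext s
        show rs M _ (sec (hj j) M V'.unop (rs (gm (hj j) M) (leOfHom i.unop) s)) =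
          rs M (leOfHom i.unop) (rs M _ (sec (hj j) M V.unop s))
        rw [sec_rs, rs_rs, rs_rs] }

theorem gmIncl_app (M : Y.Modules) (V : Y.Opens) (s : Γ(gm (hj j) M, V)) :
    (gmIncl j M).app V s = rs M (le_top_inf V) (sec (hj j) M V s) := rfl

theorem gmIncl_unit (M : Y.Modules) :
    gmIncl j M ≫ (Scheme.Modules.restrictAdjunction j).unit.app M = 0 := by
  refine Scheme.Modules.hom_ext _ _ fun V => ?_
  ext s
  show ((Scheme.Modules.restrictAdjunction j).unit.app M).app V ((gmIncl j M).app V s) = 0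
  rw [unit_app_eq, gmIncl_app, rs_rs]
  show rs M _ (sec (hj j) M V s) = 0
  rw [← rs_rs (inf_le_inf_right V (hj j)) (img_le j V), sec_mem, rs_zero]

/-- The comparison with `Γ_Z`. -/
def gmHom (M : Y.Modules) : gm (hj j) M ⟶ (DCoh.gammaZ j).obj M :=
  kernel.lift _ (gmIncl j M) (gmIncl_unit j M)

theorem gmHom_ι (M : Y.Modules) :
    gmHom j M ≫ kernel.ι ((Scheme.Modules.restrictAdjunction j).unit.app M) = gmIncl j M :=
  kernel.lift_ι _ _ _

theorem ι_gmHom_app (M : Y.Modules) (V : Y.Opens) (s : Γ(gm (hj j) M, V)) :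
    (kernel.ι ((Scheme.Modules.restrictAdjunction j).unit.app M)).app V ((gmHom j M).app V s) =
      (gmIncl j M).app V s :=
  congr(($(gmHom_ι j M)).app V s)

theorem gmHom_bijective (M : Y.Modules) (V : Y.Opens) : Function.Bijective ((gmHom j M).app V) := by
  refine ⟨fun a b hab => sec_injective _ M V ?_, fun t => ?_⟩
  · have := congrArg ((kernel.ι ((Scheme.Modules.restrictAdjunction j).unit.app M)).app V) hab
    rw [ι_gmHom_app, ι_gmHom_app, gmIncl_app, gmIncl_app] at this
    have := congrArg (rs M (inf_le_right : ⊤ ⊓ V ≤ V)) this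
    rwa [rs_rs, rs_rs, rs_self, rs_self] at this
  · let ι := kernel.ι ((Scheme.Modules.restrictAdjunction j).unit.app M)
    let x : Γ(M, V) := ι.app V t
    have hx : rs M (j.image_preimage_le V) x = 0 := by
      rw [← unit_app_eq]
      exact congr(($(kernel.condition ((Scheme.Modules.restrictAdjunction j).unit.app M))).app V t)
    obtain ⟨s, hs⟩ := exists_sec (hj j) (rs M (inf_le_right : ⊤ ⊓ V ≤ V) x) (by
      rw [rs_rs, ← rs_rs (j.image_preimage_le V) (le_img j V), hx, rs_zero])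
    refine ⟨s, app_injective ι V ?_⟩
    rw [ι_gmHom_app, gmIncl_app, hs, rs_rs, rs_self]

instance isIso_gmHom (M : Y.Modules) : IsIso (gmHom j M) := by
  haveI : ∀ V, IsIso ((gmHom j M).mapPresheaf.app V) := fun V =>
    (ConcreteCategory.isIso_iff_bijective _).2 (gmHom_bijective j M V.unop)
  haveI : IsIso ((Scheme.Modules.toPresheaf Y).map (gmHom j M)) := NatIso.isIso_of_isIso_app (gmHom j M).mapPresheaf
  exact isIso_of_reflects_iso (gmHom j M) (Scheme.Modules.toPresheaf Y)

theorem gmHom_natural {A B : Y.Modules} (f : A ⟶ B) :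
    gmMap (hj j) f ≫ gmHom j B = gmHom j A ≫ (DCoh.gammaZ j).map f := by
  apply equalizer.hom_ext
  refine (Category.assoc _ _ _).trans ((congrArg _ (gmHom_ι j B)).trans ?_)
  refine Eq.trans ?_ (Category.assoc _ _ _).symm
  refine Eq.trans ?_ (congrArg _ (kernel.lift_ι _ _ _).symm)
  refine Eq.trans ?_ (Category.assoc _ _ _)
  refine Eq.trans ?_ (congrArg (· ≫ f) (gmHom_ι j A).symm)
  refine Scheme.Modules.hom_ext _ _ fun V => ?_
  ext s
  show rs B _ (sec (hj j) B V ((gmMap (hj j) f).app V s)) = f.app V (rs A _ (sec (hj j) A V s))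
  rw [sec_map, app_rs]

instance mono_pr_map {A B : Y.Modules} (f : A ⟶ B) [Mono f] :
    Mono ((Scheme.Modules.restrictFunctor j ⋙ Scheme.Modules.pushforward j).map f) :=
  mono_of_app_injective _ fun V => app_injective f (j ''ᵁ (j ⁻¹ᵁ V))

theorem preservesFiniteLimits_gammaZ : PreservesFiniteLimits (DCoh.gammaZ j) := by
  refine (((DCoh.gammaZ j).preservesFiniteLimits_tfae.out 3 0)).2 fun S hS => ?_
  haveI := hS.mono_f
  let η := (Scheme.Modules.restrictAdjunction j).unit
  have hι : ∀ {A B : Y.Modules} (f : A ⟶ B),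
      (DCoh.gammaZ j).map f ≫ kernel.ι (η.app B) = kernel.ι (η.app A) ≫ f := fun f => kernel.lift_ι _ _ _
  haveI : Mono ((DCoh.gammaZ j).map S.f) := mono_of_mono_fac (hι S.f)
  haveI : Mono (S.map (DCoh.gammaZ j)).f := ‹Mono ((DCoh.gammaZ j).map S.f)›
  refine ⟨ShortComplex.exact_of_f_is_kernel _ ?_, inferInstanceAs (Mono ((DCoh.gammaZ j).map S.f))⟩
  refine KernelFork.IsLimit.ofι' _ _ fun {T} k hk => ?_
  have h1 : (k ≫ kernel.ι (η.app S.X₂)) ≫ S.g = 0 := by
    have := congrArg (· ≫ kernel.ι (η.app S.X₃)) hk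
    simp only [zero_comp] at this
    refine Eq.trans ?_ this
    refine (Category.assoc _ _ _).trans ((congrArg _ (hι S.g).symm).trans (Category.assoc _ _ _).symm)
  let l := hS.exact.lift _ h1
  have hl : l ≫ S.f = k ≫ kernel.ι (η.app S.X₂) := hS.exact.lift_f _ _
  have h2 : l ≫ η.app S.X₁ = 0 := by
    rw [← cancel_mono ((Scheme.Modules.restrictFunctor j ⋙ Scheme.Modules.pushforward j).map S.f), zero_comp,
      Category.assoc, ← η.naturality S.f]
    refine (Category.assoc _ _ _).symm.trans ((congrArg (· ≫ _) hl).trans ?_)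
    exact (Category.assoc _ _ _).trans ((congrArg _ (kernel.condition _)).trans comp_zero)
  refine ⟨kernel.lift _ l h2, ?_⟩
  apply equalizer.hom_ext
  refine (Category.assoc _ _ _).trans ((congrArg _ (hι S.f)).trans ?_)
  exact (Category.assoc _ _ _).symm.trans ((congrArg (· ≫ S.f) (kernel.lift_ι _ _ _)).trans hl)

theorem epi_gammaZ_map_of_flasque {S : ShortComplex Y.Modules} (hS : S.ShortExact) (h₁ : IsFlasqueMod S.X₁) :
    Epi ((DCoh.gammaZ j).map S.g) := by
  suffices Epi (gmMap (hj j) S.g) by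
    haveI : Epi (gmMap (hj j) S.g ≫ gmHom j S.X₃) := epi_comp _ _
    rw [gmHom_natural] at *
    exact epi_of_epi (gmHom j S.X₂) _
  refine ⟨fun {L} a b e => Scheme.Modules.hom_ext _ _ fun V => ?_⟩
  ext x
  obtain ⟨y, hy⟩ := SiteBase.surjective_sections_of_HU_one (toAb_shortExact hS) (⊤ ⊓ V)
    (have := h₁; SiteBase.subsingleton_HU_of_isFlasque (X := Y.toPresheafedSpace.carrier)
      (abSheaf S.X₁) (⊤ ⊓ V) 0) (sec (hj j) S.X₃ V x)
  let yW : Γ(S.X₂, j.opensRange ⊓ V) := rs S.X₂ (inf_le_inf_right V (hj j)) y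
  obtain ⟨a₀, ha₀⟩ := exists_app_f_eq hS _ yW (by
    rw [app_rs]
    exact (congrArg (rs S.X₃ _) hy).trans (sec_mem (hj j) S.X₃ V x))
  obtain ⟨a₁, ha₁⟩ := (AddCommGrpCat.epi_iff_surjective _).1
    (h₁.epi (homOfLE (inf_le_inf_right V (hj j))).op) a₀
  replace ha₁ : rs S.X₁ (inf_le_inf_right V (hj j)) a₁ = a₀ := ha₁
  obtain ⟨s, hs⟩ := exists_sec (hj j) ((show Γ(S.X₂, ⊤ ⊓ V) from y) - S.f.app _ a₁) (by
    rw [rs_sub, ← app_rs, ha₁, ha₀, sub_self])
  have hs' : (gmMap (hj j) S.g).app V s = x := by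
    refine sec_injective (hj j) _ V ?_
    rw [sec_map, hs, map_sub]
    refine (congrArg₂ (fun a b : Γ(S.X₃, ⊤ ⊓ V) => a - b) hy ?_).trans (sub_zero _)
    exact congr(($(S.zero)).app _ a₁)
  rw [← hs']
  exact congr(($e).app V s)

variable [HasInjectiveResolutions Y.Modules]

theorem isZero_HZshM_of_flasque (M : Y.Modules) (hM : IsFlasqueMod M) (i : ℕ) :
    IsZero ((LocCohZ.HZshM j (i + 1)).obj M) := by
  haveI := SpObjSS.enoughInjectives_of_hasInjectiveResolutions (C := Y.Modules)
  haveI := preservesFiniteLimits_gammaZ j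
  exact isZero_rightDerived_of_class (DCoh.gammaZ j) IsFlasqueMod
    (fun hS h₁ h₂ => isFlasqueMod_X₃ hS h₁ (haveI := h₂; isFlasqueMod_of_injective _))
    (fun hS h₁ _ => epi_gammaZ_map_of_flasque j hS h₁) M hM i

/-- `ℋ^(q+1)_Z` is computed by the Godement resolution. -/
theorem nonempty_HZshM_iso (M : Y.Modules) :
    ∀ (q : ℕ), Nonempty ((LocCohZ.HZshM j (q + 1)).obj M ≅ cokernel ((DCoh.gammaZ j).map (godπ M q))) := by
  haveI := SpObjSS.enoughInjectives_of_hasInjectiveResolutions (C := Y.Modules)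
  haveI := preservesFiniteLimits_gammaZ j
  suffices h : ∀ (k i : ℕ), Nonempty ((LocCohZ.HZshM j (i + 1)).obj (godQ M k) ≅
      (LocCohZ.HZshM j (i + k + 1)).obj M) by
    intro q
    obtain ⟨e⟩ := h q 0
    obtain ⟨e'⟩ := nonempty_R1_iso (DCoh.gammaZ j) (godSES_shortExact M q)
      (isZero_HZshM_of_flasque j _ (isFlasqueMod_God _) 0)
    exact ⟨eqToIso (by rw [Nat.zero_add]) ≪≫ e.symm ≪≫ e'⟩
  intro k
  induction k with
  | zero => exact fun i => ⟨Iso.refl _⟩
  | succ k ih =>
    intro i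
    obtain ⟨e⟩ := nonempty_shift_iso (DCoh.gammaZ j) (godSES_shortExact M k) i
      (isZero_HZshM_of_flasque j _ (isFlasqueMod_God _) i)
      (isZero_HZshM_of_flasque j _ (isFlasqueMod_God _) (i + 1))
    obtain ⟨e'⟩ := ih (i + 1)
    exact ⟨e ≪≫ e' ≪≫ eqToIso (by rw [show i + 1 + k + 1 = i + (k + 1) + 1 by omega])⟩

/-- The model of `ℋ^(q+1)_Z` in terms of supported sections. -/
theorem nonempty_HZshM_iso_gm (M : Y.Modules) (q : ℕ) :
    Nonempty ((LocCohZ.HZshM j (q + 1)).obj M ≅ cokernel (gmMap (hj j) (godπ M q))) := by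
  obtain ⟨e⟩ := nonempty_HZshM_iso j M q
  exact ⟨e ≪≫ (cokernel.mapIso (gmMap (hj j) (godπ M q)) ((DCoh.gammaZ j).map (godπ M q))
    (asIso (gmHom j _)) (asIso (gmHom j _)) (gmHom_natural j _)).symm⟩

instance quasiCompact_top_ι : QuasiCompact (⊤ : Y.Opens).ι := by
  rw [← Scheme.topIso_hom]
  infer_instance

omit [HasInjectiveResolutions Y.Modules] in
theorem quasiCompact_range_ι [QuasiCompact j] : QuasiCompact j.opensRange.ι := by
  rw [← IsOpenImmersion.isoOfRangeEq_inv_fac j j.opensRange.ι (by simp [Scheme.Hom.opensRange])]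
  infer_instance

theorem isQCoh_HZshM [QuasiCompact j] (M : Y.Modules) (hM : Coh.IsQCoh M) (q : ℕ) :
    Coh.IsQCoh ((LocCohZ.HZshM j q).obj M) := by
  haveI := quasiCompact_range_ι j
  cases q with
  | zero =>
    haveI := SpObjSS.enoughInjectives_of_hasInjectiveResolutions (C := Y.Modules)
    haveI := preservesFiniteLimits_gammaZ j
    exact (isQCoh_iff_iso ((DCoh.gammaZ j).rightDerivedZeroIsoSelf.app M ≪≫ (asIso (gmHom j M)).symm)).2
      (isQCoh_gm (hj j) hM)
  | succ q =>
    obtain ⟨e⟩ := nonempty_HZshM_iso_gm j M q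
    exact (isQCoh_iff_iso e).2 (locRange_gm (hj j) hM q).isQCoh

end Groth.Agent.LCZLib

end
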