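import Groth.Agent.LCZLib.Pres
import Groth.Agent.SiteBase.Kill

/-!
# The long exact sequence of cohomology with supports
-/

set_option autoImplicit false
set_option linter.style.haveILetI false

universe u

open CategoryTheory CategoryTheory.Limits Opposite TopologicalSpace TopCat Topology Abelian

noncomputable section

namespace Groth.Agent.LCZLib

variable {X : TopCat.{u}}

local notation "JX" => Opens.grothendieckTopology X

theorem exact_res (F : CohTop.Ab X) {W V : Opens X} (h : W ≤ V) (i : ℕ) (x : CohTop.HU F i V)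
    (hx : CohTop.res F i h x = 0) : ∃ y, LocCohZ.toHU F i h y = x :=
  Ext.contravariant_sequence_exact₂ (LocCohZ.zqSeq_shortExact h) F x hx

theorem exact_toHU (F : CohTop.Ab X) {W V : Opens X} (h : W ≤ V) (i : ℕ) (y : LocCohZ.HZ F (i + 1) h)
    (hy : LocCohZ.toHU F (i + 1) h y = 0) : ∃ w, LocCohZ.delta F i h w = y :=
  Ext.contravariant_sequence_exact₃ (LocCohZ.zqSeq_shortExact h) F y hy (n₀ := i) (by omega)

theorem exact_delta (F : CohTop.Ab X) {W V : Opens X} (h : W ≤ V) (i : ℕ) (w : CohTop.HU F i W)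
    (hw : LocCohZ.delta F i h w = 0) : ∃ z, CohTop.res F i h z = w :=
  Ext.contravariant_sequence_exact₁ (LocCohZ.zqSeq_shortExact h) F w (n₁ := i + 1) (by omega) hw

theorem res_toHU (F : CohTop.Ab X) {W V : Opens X} (h : W ≤ V) (i : ℕ) (y : LocCohZ.HZ F i h) :
    CohTop.res F i h (LocCohZ.toHU F i h y) = 0 := by
  show (Ext.mk₀ (CohCx.freeSheafMap JX (homOfLE h))).comp ((Ext.mk₀ (cokernel.π _)).comp y (zero_add i)) (zero_add i) = 0
  rw [Ext.mk₀_comp_mk₀_assoc, cokernel.condition, Ext.mk₀_zero, Ext.zero_comp]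

theorem delta_res (F : CohTop.Ab X) {W V : Opens X} (h : W ≤ V) (i : ℕ) (z : CohTop.HU F i V) :
    LocCohZ.delta F i h (CohTop.res F i h z) = 0 :=
  ShortComplex.ShortExact.extClass_comp_assoc (LocCohZ.zqSeq_shortExact h) z (h := Nat.add_comm 1 i)

theorem toHU_zero_injective (F : CohTop.Ab X) {W V : Opens X} (h : W ≤ V) :
    Function.Injective (LocCohZ.toHU F 0 h) := by
  refine (injective_iff_map_eq_zero _).2 fun y hy => ?_
  obtain ⟨φ, rfl⟩ := (Ext.mk₀_bijective _ _).2 y
  have h2 : Ext.mk₀ ((LocCohZ.zqSeq h).g ≫ φ) = 0 := (Ext.mk₀_comp_mk₀ _ _).symm.trans hy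
  rw [← Ext.mk₀_zero] at h2
  have h3 := (Ext.mk₀_bijective _ _).1 h2
  have h4 : φ = 0 := (cancel_epi (cokernel.π (CohCx.freeSheafMap JX (homOfLE h)))).1 (h3.trans comp_zero.symm)
  rw [h4, Ext.mk₀_zero]

/-- Cohomology with supports vanishes up to `N` iff restriction is bijective below `N` and injective at `N`. -/
theorem subsingleton_HZ_iff (F : CohTop.Ab X) {W V : Opens X} (h : W ≤ V) (N : ℕ) :
    (∀ i, i ≤ N → Subsingleton (LocCohZ.HZ F i h)) ↔
      (∀ i, i < N → Function.Bijective (CohTop.res F i h)) ∧ Function.Injective (CohTop.res F N h) := by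
  have hinj : ∀ i, Subsingleton (LocCohZ.HZ F i h) → Function.Injective (CohTop.res F i h) := fun i hi =>
    (injective_iff_map_eq_zero _).2 fun x hx => by
      obtain ⟨y, rfl⟩ := exact_res F h i x hx
      rw [Subsingleton.elim y 0, map_zero]
  constructor
  · refine fun hZ => ⟨fun i hi => ⟨hinj i (hZ i hi.le), fun w => ?_⟩, hinj N (hZ N le_rfl)⟩
    haveI := hZ (i + 1) hi
    exact exact_delta F h i w (Subsingleton.elim _ _)
  · rintro ⟨hb, hN⟩ i hi
    have hir : Function.Injective (CohTop.res F i h) := by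
      rcases eq_or_lt_of_le hi with rfl | hi'
      exacts [hN, (hb i hi').1]
    refine subsingleton_of_forall_eq 0 fun y => ?_
    have hy : LocCohZ.toHU F i h y = 0 := hir ((res_toHU F h i y).trans (map_zero _).symm)
    cases i with
    | zero => exact toHU_zero_injective F h (hy.trans (map_zero _).symm)
    | succ k =>
      obtain ⟨w, rfl⟩ := exact_toHU F h k y hy
      obtain ⟨z, rfl⟩ := (hb k hi).2 w
      exact delta_res F h k z

/-- Flasque sheaves have no higher cohomology with supports. -/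
theorem subsingleton_HZ_of_flasque (F : CohTop.Ab X) [hF : TopCat.Sheaf.IsFlasque F] {W V : Opens X} (h : W ≤ V)
    (k : ℕ) : Subsingleton (LocCohZ.HZ F (k + 1) h) := by
  refine subsingleton_of_forall_eq 0 fun y => ?_
  obtain ⟨w, rfl⟩ := exact_toHU F h k y ((SiteBase.subsingleton_HU_of_isFlasque F V k).elim _ _)
  suffices Function.Surjective (CohTop.res F k h) by
    obtain ⟨z, rfl⟩ := this w
    exact delta_res F h k z
  cases k with
  | zero =>
    intro w
    obtain ⟨φ, rfl⟩ := (Ext.mk₀_bijective _ _).2 w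
    obtain ⟨s, hs⟩ := (AddCommGrpCat.epi_iff_surjective _).1 (hF.epi (homOfLE h).op) (CohFree.evalGen JX W F φ)
    refine ⟨Ext.mk₀ (CohFree.ofSect JX V F s), ?_⟩
    show (Ext.mk₀ (CohCx.freeSheafMap JX (homOfLE h))).comp (Ext.mk₀ (CohFree.ofSect JX V F s)) (zero_add 0) = _
    rw [Ext.mk₀_comp_mk₀]
    congr 1
    apply (CohFree.homEquivSect JX W F).injective
    rw [CohFree.homEquivSect_apply, CohFree.homEquivSect_apply, CohFree.evalGen_freeSheafMap_comp, CohFree.evalGen_ofSect]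
    exact hs
  | succ j => exact fun w => ⟨0, @Subsingleton.elim _ (SiteBase.subsingleton_HU_of_isFlasque F W j) _ _⟩

theorem subsingleton_HZ_congr (F : CohTop.Ab X) (i : ℕ) {W V W' : Opens X} (h : W ≤ V) (h' : W' ≤ V)
    (e : W' = W) : Subsingleton (LocCohZ.HZ F i h) ↔ Subsingleton (LocCohZ.HZ F i h') := by
  subst e; rfl

/-- Forgetting supports commutes with change of pair. -/
theorem toHU_resZ (F : CohTop.Ab X) (i : ℕ) {W V W' V' : Opens X} (h : W ≤ V) (h' : W' ≤ V') (hW : W' ≤ W)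
    (hV : V' ≤ V) (y : LocCohZ.HZ F i h) :
    LocCohZ.toHU F i h' (LocCohZ.resZ F i h h' hW hV y) = CohTop.res F i hV (LocCohZ.toHU F i h y) := by
  show (Ext.mk₀ (cokernel.π (CohCx.freeSheafMap JX (homOfLE h')))).comp
      ((Ext.mk₀ (LocCohZ.zqMap h h' hW hV)).comp y (zero_add i)) (zero_add i) =
    (Ext.mk₀ (CohCx.freeSheafMap JX (homOfLE hV))).comp
      ((Ext.mk₀ (cokernel.π (CohCx.freeSheafMap JX (homOfLE h)))).comp y (zero_add i)) (zero_add i)
  rw [Ext.mk₀_comp_mk₀_assoc, Ext.mk₀_comp_mk₀_assoc, LocCohZ.zqMap, cokernel.π_desc]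

variable (U : Opens X)

/-- The presheaf of cohomology with supports being locally zero kills the sheaf. -/
theorem isZero_HZsh_of_subsingleton (F : CohTop.Ab X) (i : ℕ)
    (hF : ∀ V : Opens X, Subsingleton (LocCohZ.HZ F i (inf_le_right : U ⊓ V ≤ V))) :
    IsZero ((LocCohZ.HZsh U i).obj F) := by
  refine IsZero.of_iso (SiteBase.isZero_sheafify ((hzPsh U i).obj F) fun V _ => ⟨⊤, GrothendieckTopology.top_mem _ V, fun W _ _ => ?_⟩)
    ((HZshIso U i).app F)
  exact @Subsingleton.elim _ (hF W) _ _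

/-- If `res` is bijective below `N > 0`, the `N`-th sheaf vanishes as well. -/
theorem isZero_HZsh_top (F : CohTop.Ab X) (k : ℕ)
    (hk : ∀ V : Opens X, Function.Surjective (CohTop.res F k (inf_le_right : U ⊓ V ≤ V))) :
    IsZero ((LocCohZ.HZsh U (k + 1)).obj F) := by
  refine IsZero.of_iso (SiteBase.isZero_sheafify ((hzPsh U (k + 1)).obj F) fun V y₀ => ?_) ((HZshIso U (k + 1)).app F)
  let y : LocCohZ.HZ F (k + 1) (inf_le_right : U ⊓ V ≤ V) := y₀
  obtain ⟨S, hS, hres⟩ := SiteBase.exists_cover_res_eq_zero F V k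
    (LocCohZ.toHU F (k + 1) (inf_le_right : U ⊓ V ≤ V) y)
  refine ⟨S, hS, fun W g hg => ?_⟩
  let y' : LocCohZ.HZ F (k + 1) (inf_le_right : U ⊓ W ≤ W) :=
    LocCohZ.resZ F (k + 1) _ _ (inf_le_inf_left U (leOfHom g)) (leOfHom g) y
  show y' = 0
  have hy' : LocCohZ.toHU F (k + 1) (inf_le_right : U ⊓ W ≤ W) y' = 0 := by
    exact (toHU_resZ F (k + 1) _ _ _ (leOfHom g) y).trans (hres W g hg)
  obtain ⟨w, hw⟩ := exact_toHU F _ k y' hy'
  obtain ⟨z, rfl⟩ := hk W w
  rw [← hw]
  exact delta_res F _ k z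

end Groth.Agent.LCZLib

end
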