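import Groth.Agent.LCZLib.Pres
import Groth.Agent.LCZLib.Seq
import Groth.Agent.LCZLib.QCohM

/-!
# Local cohomology sheaves under restriction, and comparison with those of O-modules
-/

set_option autoImplicit false
set_option linter.style.haveILetI false
set_option backward.isDefEq.respectTransparency false
set_option backward.isDefEq.respectTransparency.types false

universe u

open CategoryTheory CategoryTheory.Limits Opposite TopologicalSpace TopCat Topology

noncomputable section

namespace Groth.Agent.LCZLib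

section Generic

variable {X : TopCat.{u}}

local notation "JX" => Opens.grothendieckTopology X

/-- Two monomorphisms with the same image on sections. -/
theorem exists_iso_of_range {A B F : CohTop.Ab X} (a : A ⟶ F) (b : B ⟶ F)
    (ha : ∀ V, Function.Injective (a.hom.app (op V)).hom) (hb : ∀ V, Function.Injective (b.hom.app (op V)).hom)
    (h : ∀ V s, (∃ t, (a.hom.app (op V)).hom t = s) ↔ ∃ t, (b.hom.app (op V)).hom t = s) :
    ∃ e : A ≅ B, e.hom ≫ b = a := by
  have hex : ∀ V (t : A.obj.obj (op V)), ∃ t', (b.hom.app (op V)).hom t' = (a.hom.app (op V)).hom t :=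
    fun V t => (h V _).1 ⟨t, rfl⟩
  let f : ∀ V, A.obj.obj (op V) →+ B.obj.obj (op V) := fun V =>
    AddMonoidHom.mk' (fun t => (hex V t).choose) fun s t => hb V (by
      rw [(hex V (s + t)).choose_spec, map_add, map_add, (hex V s).choose_spec, (hex V t).choose_spec])
  have hf : ∀ V t, (b.hom.app (op V)).hom (f V t) = (a.hom.app (op V)).hom t := fun V t => (hex V t).choose_spec
  have hbij : ∀ V, Function.Bijective (f V) := fun V => by
    refine ⟨fun s t hst => ha V (by rw [← hf, ← hf, hst]), fun t => ?_⟩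
    obtain ⟨s, hs⟩ := (h V _).2 ⟨t, rfl⟩
    exact ⟨s, hb V ((hf V s).trans hs)⟩
  refine ⟨(fullyFaithfulSheafToPresheaf JX AddCommGrpCat.{u}).preimageIso (NatIso.ofComponents
    (fun V => (AddEquiv.ofBijective (f V.unop) (hbij V.unop)).toAddCommGrpIso) (fun {V V'} i => by
      ext t
      refine hb V'.unop ?_
      refine (hf V'.unop _).trans ?_
      refine (ConcreteCategory.congr_hom (a.hom.naturality i) t).trans ?_
      refine Eq.trans ?_ (ConcreteCategory.congr_hom (b.hom.naturality i) (f V.unop t)).symm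
      exact congrArg (fun z => (F.obj.map i).hom z) (hf V.unop t).symm)), ?_⟩
  apply CategoryTheory.Sheaf.hom_ext
  ext V t
  exact hf V.unop t

theorem natural_of_range {A B A' B' F F' : CohTop.Ab X} {a : A ⟶ F} {b : B ⟶ F} {a' : A' ⟶ F'} {b' : B' ⟶ F'}
    [Mono b'] (e : A ⟶ B) (e' : A' ⟶ B') (he : e ≫ b = a) (he' : e' ≫ b' = a')
    (φ : F ⟶ F') (φA : A ⟶ A') (φB : B ⟶ B') (hA : φA ≫ a' = a ≫ φ) (hB : φB ≫ b' = b ≫ φ) :
    φA ≫ e' = e ≫ φB := by
  rw [← cancel_mono b', Category.assoc, Category.assoc, he', hA, hB, ← Category.assoc, he]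

end Generic

section Restrict

variable {X : TopCat.{u}} (U W : Opens X)

/-- The trace of `U` on `W`. -/
abbrev trace : Opens (TopCat.of W) := (Opens.map (CohCx.incl W)).obj U

theorem exists_iso_restr_sectSuppF (F : CohTop.Ab X) :
    ∃ e : (CohTop.restrFunctor W).obj ((LocCohZ.sectSuppF U).obj F) ≅
        (LocCohZ.sectSuppF (trace U W)).obj ((CohTop.restrFunctor W).obj F),
      e.hom ≫ (suppι (trace U W)).app _ = (CohTop.restrFunctor W).map ((suppι U).app F) := by
  refine exists_iso_of_range _ _ (fun V => incl_injective U F _)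
    (fun V => incl_injective (trace U W) _ V) fun V s => ?_
  refine (range_incl U F (W.isOpenEmbedding.isOpenMap.functor.obj V) s).trans
    (Iff.trans ?_ (range_incl (trace U W) _ V s).symm)
  have e : W.isOpenEmbedding.isOpenMap.functor.obj (trace U W ⊓ V) =
      U ⊓ W.isOpenEmbedding.isOpenMap.functor.obj V := by
    ext x
    constructor
    · rintro ⟨y, ⟨hy1, hy2⟩, rfl⟩; exact ⟨hy1, y, hy2, rfl⟩
    · rintro ⟨hx, y, hy, rfl⟩; exact ⟨y, ⟨hx, hy⟩, rfl⟩
  show F.obj.map _ s = 0 ↔ F.obj.map _ s = 0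
  constructor
  · intro h0
    have := congrArg (fun z => (F.obj.map (homOfLE e.le).op).hom z) h0
    simp only [map_zero] at this
    rw [← ConcreteCategory.comp_apply, ← Functor.map_comp] at this
    exact this
  · intro h0
    have := congrArg (fun z => (F.obj.map (homOfLE e.ge).op).hom z) h0
    simp only [map_zero] at this
    refine Eq.trans ?_ this
    refine Eq.trans ?_ (ConcreteCategory.congr_hom (F.obj.map_comp _ _) s)
    rfl

/-- Sections with supports commute with restriction. -/
theorem nonempty_restr_sectSuppF :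
    Nonempty (LocCohZ.sectSuppF U ⋙ CohTop.restrFunctor W ≅
      CohTop.restrFunctor W ⋙ LocCohZ.sectSuppF (trace U W)) := by
  choose e he using exists_iso_restr_sectSuppF U W
  refine ⟨NatIso.ofComponents e fun {F G} φ => ?_⟩
  haveI : Mono ((suppι (trace U W)).app ((CohTop.restrFunctor W).obj G)) :=
    inferInstanceAs (Mono (kernel.ι _))
  refine natural_of_range (e F).hom (e G).hom (he F) (he G) ((CohTop.restrFunctor W).map φ) _ _ ?_ ?_
  · refine ((CohTop.restrFunctor W).map_comp _ _).symm.trans (Eq.trans ?_ ((CohTop.restrFunctor W).map_comp _ _))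
    exact congrArg _ ((suppι U).naturality φ)
  · exact (suppι (trace U W)).naturality ((CohTop.restrFunctor W).map φ)

theorem preservesFiniteLimits_restr : PreservesFiniteLimits (CohTop.restrFunctor W) :=
  haveI : PreservesFiniteLimits (CohTop.pull (CohCx.incl W)) := SiteBase.preservesFiniteLimits_pull _
  preservesFiniteLimits_of_natIso (pullIso W)

theorem preservesFiniteColimits_restr : PreservesFiniteColimits (CohTop.restrFunctor W) :=
  haveI := preservesFiniteColimits_pull (CohCx.incl W)
  preservesFiniteColimits_of_natIso (pullIso W)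

/-- Local cohomology sheaves commute with restriction. -/
theorem nonempty_restr_HZsh (q : ℕ) :
    Nonempty (LocCohZ.HZsh U q ⋙ CohTop.restrFunctor W ≅
      CohTop.restrFunctor W ⋙ LocCohZ.HZsh (trace U W) q) := by
  obtain ⟨e⟩ := nonempty_restr_sectSuppF U W
  haveI := preservesFiniteLimits_restr W
  haveI := preservesFiniteColimits_restr W
  haveI : (CohTop.restrFunctor W).PreservesInjectiveObjects := ⟨fun {F} hF => injective_restr W F hF⟩
  exact ⟨(SiteBase.rightDerivedCompIso (LocCohZ.sectSuppF U) (CohTop.restrFunctor W) q).symm ≪≫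
    SiteBase.rightDerivedCongr e q ≪≫
    SiteBase.rightDerivedPrecompIso (CohTop.restrFunctor W) (LocCohZ.sectSuppF (trace U W)) q⟩

theorem isZero_restr_HZsh_iff (F : CohTop.Ab X) (q : ℕ) :
    IsZero ((CohTop.restrFunctor W).obj ((LocCohZ.HZsh U q).obj F)) ↔
      IsZero ((LocCohZ.HZsh (trace U W) q).obj ((CohTop.restrFunctor W).obj F)) :=
  have e := (nonempty_restr_HZsh U W q).some.app F
  ⟨fun h => h.of_iso e.symm, fun h => h.of_iso e⟩

/-- A sheaf with vanishing restrictions to a cover vanishes. -/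
theorem isZero_of_restr (G : CohTop.Ab X)
    (h : ∀ x : X, ∃ W : Opens X, x ∈ W ∧ IsZero ((CohTop.restrFunctor W).obj G)) : IsZero G := by
  refine (IsZero.iff_id_eq_zero G).2 ?_
  apply CategoryTheory.Sheaf.hom_ext
  ext V s
  refine TopCat.Presheaf.section_ext G _ _ _ fun x hx => ?_
  obtain ⟨W, hxW, hW⟩ := h x
  have hle : W.isOpenEmbedding.isOpenMap.functor.obj ((Opens.map (CohCx.incl W)).obj V.unop) ≤ V.unop := by
    rintro _ ⟨y, hy, rfl⟩; exact hy
  have hmem : x ∈ W.isOpenEmbedding.isOpenMap.functor.obj ((Opens.map (CohCx.incl W)).obj V.unop) :=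
    ⟨⟨x, hxW⟩, hx, rfl⟩
  haveI : Subsingleton ((((CohTop.restrFunctor W).obj G).obj.obj
    (op ((Opens.map (CohCx.incl W)).obj V.unop))) : Type u) := AddCommGrpCat.subsingleton_of_isZero
    (((sheafToPresheaf (Opens.grothendieckTopology (TopCat.of W)) AddCommGrpCat.{u}) ⋙
      (evaluation (Opens (TopCat.of W))ᵒᵖ AddCommGrpCat.{u}).obj
        (op ((Opens.map (CohCx.incl W)).obj V.unop))).map_isZero hW)
  rw [← TopCat.Presheaf.germ_res_apply G.obj (homOfLE hle) x hmem,
    ← TopCat.Presheaf.germ_res_apply G.obj (homOfLE hle) x hmem]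
  exact congrArg _ (@Subsingleton.elim ((((CohTop.restrFunctor W).obj G).obj.obj
    (op ((Opens.map (CohCx.incl W)).obj V.unop))) : Type u) inferInstance _ _)

end Restrict

section Modules

open AlgebraicGeometry Groth.Agent.QCoh

variable {Y : Scheme.{u}} (U : Y.Opens)

theorem exists_iso_toAb_gammaZ (M : Y.Modules) :
    ∃ e : (toAbFunctor Y).obj ((DCoh.gammaZ U.ι).obj M) ≅
        (LocCohZ.sectSuppF (X := Y.toPresheafedSpace.carrier) U).obj ((toAbFunctor Y).obj M),
      e.hom ≫ (suppι (X := Y.toPresheafedSpace.carrier) U).app _ =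
        (toAbFunctor Y).map (kernel.ι ((Scheme.Modules.restrictAdjunction U.ι).unit.app M)) := by
  refine exists_iso_of_range (X := Y.toPresheafedSpace.carrier) _ _
    (fun V => app_injective (kernel.ι ((Scheme.Modules.restrictAdjunction U.ι).unit.app M)) V)
    (fun V => incl_injective (X := Y.toPresheafedSpace.carrier) U _ V) fun V s => ?_
  refine Iff.trans ?_ (range_incl (X := Y.toPresheafedSpace.carrier) U ((toAbFunctor Y).obj M) V s).symm
  let x : Γ(M, V) := s
  let ι := kernel.ι ((Scheme.Modules.restrictAdjunction U.ι).unit.app M)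
  have himg : U.ι ''ᵁ (U.ι ⁻¹ᵁ V) = U ⊓ V := by
    rw [Scheme.Hom.image_preimage_eq_opensRange_inf, Scheme.Opens.opensRange_ι]
  show (∃ t, ι.app V t = x) ↔ rs M (inf_le_right : U ⊓ V ≤ V) x = 0
  constructor
  · rintro ⟨t, ht⟩
    have h0 : ((Scheme.Modules.restrictAdjunction U.ι).unit.app M).app V x = 0 := by
      rw [← ht]
      exact congr(($(kernel.condition ((Scheme.Modules.restrictAdjunction U.ι).unit.app M))).app V t)
    rw [unit_app_eq] at h0
    rw [← rs_rs (U.ι.image_preimage_le V) himg.ge, h0, rs_zero]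
  · intro h0
    obtain ⟨t', ht'⟩ := SuppFamLib.exists_sec (hj U.ι) (rs M (inf_le_right : ⊤ ⊓ V ≤ V) x) (by
      rw [rs_rs, ← rs_rs (inf_le_right : U ⊓ V ≤ V) (inf_le_inf_right V U.opensRange_ι.le), h0, rs_zero])
    refine ⟨(gmHom U.ι M).app V t', ?_⟩
    rw [ι_gmHom_app, gmIncl_app, ht', rs_rs, rs_self]

/-- The two functors of sections with supports agree. -/
theorem nonempty_toAb_gammaZ :
    Nonempty (DCoh.gammaZ U.ι ⋙ toAbFunctor Y ≅
      toAbFunctor Y ⋙ LocCohZ.sectSuppF (X := Y.toPresheafedSpace.carrier) U) := by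
  choose e he using exists_iso_toAb_gammaZ U
  refine ⟨NatIso.ofComponents e fun {M N} φ => ?_⟩
  haveI : Mono ((suppι (X := Y.toPresheafedSpace.carrier) U).app ((toAbFunctor Y).obj N)) :=
    inferInstanceAs (Mono (kernel.ι _))
  refine natural_of_range (X := Y.toPresheafedSpace.carrier) (e M).hom (e N).hom (he M) (he N)
    ((toAbFunctor Y).map φ) _ _ ?_ ?_
  · refine ((toAbFunctor Y).map_comp _ _).symm.trans (Eq.trans ?_ ((toAbFunctor Y).map_comp _ _))
    exact congrArg _ (kernel.lift_ι _ _ _)
  · exact (suppι (X := Y.toPresheafedSpace.carrier) U).naturality ((toAbFunctor Y).map φ)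

/-- The local cohomology sheaves of a module and of the underlying abelian sheaf agree. -/
theorem nonempty_toAb_HZshM [HasInjectiveResolutions Y.Modules] (M : Y.Modules) (q : ℕ) :
    Nonempty ((toAbFunctor Y).obj ((LocCohZ.HZshM U.ι q).obj M) ≅
      (LocCohZ.HZsh (X := Y.toPresheafedSpace.carrier) U q).obj ((toAbFunctor Y).obj M)) := by
  haveI := SpObjSS.enoughInjectives_of_hasInjectiveResolutions (C := Y.Modules)
  haveI := preservesFiniteLimits_gammaZ U.ι
  haveI : PreservesFiniteLimits (LocCohZ.sectSuppF (X := Y.toPresheafedSpace.carrier) U) :=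
    preservesFiniteLimits_sectSuppF (X := Y.toPresheafedSpace.carrier) U
  obtain ⟨c⟩ := nonempty_toAb_gammaZ U
  cases q with
  | zero => exact ⟨(toAbFunctor Y).mapIso ((DCoh.gammaZ U.ι).rightDerivedZeroIsoSelf.app M) ≪≫ c.app M ≪≫
      ((LocCohZ.sectSuppF (X := Y.toPresheafedSpace.carrier) U).rightDerivedZeroIsoSelf.app _).symm⟩
  | succ k =>
    obtain ⟨e₁⟩ := nonempty_HZshM_iso U.ι M k
    obtain ⟨e₂⟩ := nonempty_toAb_cokernel ((DCoh.gammaZ U.ι).map (godπ M k))
    obtain ⟨e₃⟩ := QCoh.nonempty_tower_iso (LocCohZ.sectSuppF (X := Y.toPresheafedSpace.carrier) U)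
      (fun n => (godSES M n).map (toAbFunctor Y)) (fun n => toAb_shortExact (godSES_shortExact M n))
      (fun n => Iso.refl _) (fun n i => by
        haveI : TopCat.Sheaf.IsFlasque (X := Y.toPresheafedSpace.carrier)
          ((godSES M n).map (toAbFunctor Y)).X₂ := isFlasque_God _
        exact isZero_HZsh_of_subsingleton (X := Y.toPresheafedSpace.carrier) U _ (i + 1)
          fun V => subsingleton_HZ_of_flasque (X := Y.toPresheafedSpace.carrier) _ _ i) k
    exact ⟨(toAbFunctor Y).mapIso e₁ ≪≫ e₂ ≪≫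
      cokernel.mapIso _ _ (c.app _) (c.app _) (c.hom.naturality (godπ M k)) ≪≫ e₃.symm⟩

theorem isZero_HZshM_iff [HasInjectiveResolutions Y.Modules] (M : Y.Modules) (q : ℕ) :
    IsZero ((LocCohZ.HZsh (X := Y.toPresheafedSpace.carrier) U q).obj ((toAbFunctor Y).obj M)) ↔
      IsZero ((LocCohZ.HZshM U.ι q).obj M) := by
  obtain ⟨e⟩ := nonempty_toAb_HZshM U M q
  refine ⟨fun h => ?_, fun h => ((toAbFunctor Y).map_isZero h).of_iso e.symm⟩
  refine (IsZero.iff_id_eq_zero _).2 (Scheme.Modules.hom_ext _ _ fun V => ?_)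
  have h0 : (toAbFunctor Y).map (𝟙 ((LocCohZ.HZshM U.ι q).obj M)) = 0 := (h.of_iso e).eq_of_src _ _
  exact congr(($h0).hom.app (op V))

end Modules

end Groth.Agent.LCZLib

end
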