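import Groth.Agent.LCZLib.Open
import Groth.Agent.SiteBase.ExtByZero
import Groth.Agent.EtMVLib.ExtTools

/-!
# Cohomology with supports under restriction to an open subspace
-/

set_option autoImplicit false
set_option linter.style.haveILetI false
set_option backward.isDefEq.respectTransparency false
set_option backward.isDefEq.respectTransparency.types false

universe u

open CategoryTheory CategoryTheory.Limits Opposite TopologicalSpace TopCat Topology Abelian

noncomputable section

namespace Groth.Agent.LCZLib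

open Groth.Agent.ExtByZero

variable {X : TopCat.{u}} (V : Opens X)

local notation "JX" => Opens.grothendieckTopology X
local notation "JV" => Opens.grothendieckTopology (TopCat.of V)

theorem res_self {Z : TopCat.{u}} (F : CohTop.Ab Z) {A : Opens Z} (h : A ≤ A) (x : F.obj.obj (op A)) :
    (F.obj.map (homOfLE h).op).hom x = x := by
  refine (congrArg (fun k : op A ⟶ op A => (F.obj.map k).hom x) (Subsingleton.elim _ (𝟙 _))).trans ?_
  rw [CategoryTheory.Functor.map_id]
  rfl

/-- Extension by zero of a free sheaf. -/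
def extFreeIso (A : Opens (TopCat.of V)) (B : Opens X) (e : img V A = B) :
    (ext0 V).obj (CohCx.freeSheaf JV A) ≅ CohCx.freeSheaf JX B where
  hom := ((adj V).homEquiv _ _).symm (CohFree.ofSect JV A ((CohTop.restrFunctor V).obj (CohCx.freeSheaf JX B))
    (((CohCx.freeSheaf JX B).obj.map (homOfLE e.le).op).hom (CohFree.gen JX B)))
  inv := CohFree.ofSect JX B ((ext0 V).obj (CohCx.freeSheaf JV A))
    ((((ext0 V).obj (CohCx.freeSheaf JV A)).obj.map (homOfLE e.ge).op).hom
      (CohFree.evalGen JV A _ ((adj V).unit.app (CohCx.freeSheaf JV A))))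
  hom_inv_id := by
    subst e
    apply ((adj V).homEquiv _ _).injective
    rw [Adjunction.homEquiv_naturality_right, Equiv.apply_symm_apply, Adjunction.homEquiv_unit,
      CategoryTheory.Functor.map_id]
    erw [Category.comp_id]
    apply (CohFree.homEquivSect JV A _).injective
    rw [CohFree.homEquivSect_apply, CohFree.homEquivSect_apply]
    let s : ((ext0 V).obj (CohCx.freeSheaf JV A)).obj.obj (op (img V A)) :=
      CohFree.evalGen JV A _ ((adj V).unit.app (CohCx.freeSheaf JV A))
    show ((CohFree.ofSect JX (img V A) _ ((((ext0 V).obj (CohCx.freeSheaf JV A)).obj.map (homOfLE le_rfl).op).hom s)).hom.app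
        (op (img V A))).hom
      (CohFree.evalGen JV A _ (CohFree.ofSect JV A ((CohTop.restrFunctor V).obj (CohCx.freeSheaf JX (img V A)))
        (((CohCx.freeSheaf JX (img V A)).obj.map (homOfLE le_rfl).op).hom (CohFree.gen JX (img V A))))) = s
    rw [res_self, res_self]
    erw [CohFree.evalGen_ofSect]
    exact CohFree.evalGen_ofSect JX (img V A) _ s
  inv_hom_id := by
    subst e
    apply (CohFree.homEquivSect JX (img V A) _).injective
    rw [CohFree.homEquivSect_apply, CohFree.homEquivSect_apply]
    let φ := CohFree.ofSect JV A ((CohTop.restrFunctor V).obj (CohCx.freeSheaf JX (img V A)))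
        (((CohCx.freeSheaf JX (img V A)).obj.map (homOfLE le_rfl).op).hom (CohFree.gen JX (img V A)))
    let s : ((ext0 V).obj (CohCx.freeSheaf JV A)).obj.obj (op (img V A)) :=
      CohFree.evalGen JV A _ ((adj V).unit.app (CohCx.freeSheaf JV A))
    show ((((adj V).homEquiv _ _).symm φ).hom.app (op (img V A))).hom
      (CohFree.evalGen JX (img V A) _ (CohFree.ofSect JX (img V A) _
        ((((ext0 V).obj (CohCx.freeSheaf JV A)).obj.map (homOfLE le_rfl).op).hom s))) = CohFree.gen JX (img V A)
    rw [res_self]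
    erw [CohFree.evalGen_ofSect]
    have h1 : (adj V).unit.app _ ≫ (CohTop.restrFunctor V).map (((adj V).homEquiv _ _).symm φ) = φ := by
      exact ((adj V).homEquiv_unit _ _ _).symm.trans (Equiv.apply_symm_apply _ _)
    refine (congrArg (CohFree.evalGen JV A _) h1).trans ?_
    refine (CohFree.evalGen_ofSect JV A _ _).trans ?_
    exact res_self _ le_rfl _

theorem extFreeIso_natural {A A' : Opens (TopCat.of V)} (i : A' ≤ A) {B B' : Opens X} (i' : B' ≤ B)
    (e : img V A = B) (e' : img V A' = B') :
    (ext0 V).map (CohCx.freeSheafMap JV (homOfLE i)) ≫ (extFreeIso V A B e).hom =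
      (extFreeIso V A' B' e').hom ≫ CohCx.freeSheafMap JX (homOfLE i') := by
  subst e e'
  apply ((adj V).homEquiv _ _).injective
  rw [Adjunction.homEquiv_naturality_left, Adjunction.homEquiv_naturality_right]
  simp only [extFreeIso, Equiv.apply_symm_apply]
  apply (CohFree.homEquivSect JV A' _).injective
  rw [CohFree.homEquivSect_apply, CohFree.homEquivSect_apply, CohFree.evalGen_freeSheafMap_comp,
    CohFree.evalGen_ofSect]
  let F := CohCx.freeSheaf JX (img V A)
  refine Eq.trans ?_ (congrArg (fun z => ((CohCx.freeSheafMap JX (homOfLE i')).hom.app (op (img V A'))).hom z)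
    ((CohFree.evalGen_ofSect JV A' _ _).trans (res_self (CohCx.freeSheaf JX (img V A')) le_rfl _))).symm
  refine (congrArg (fun z => (F.obj.map (homOfLE i').op).hom z) (res_self F le_rfl _)).trans ?_
  have := CohFree.evalGen_freeSheafMap_comp JX (homOfLE i') F (𝟙 F)
  rw [Category.comp_id] at this
  exact this.symm

theorem img_top : img V (⊤ : Opens (TopCat.of V)) = V := by
  ext x
  exact ⟨fun ⟨y, _, hy⟩ => hy ▸ y.2, fun hx => ⟨⟨x, hx⟩, trivial, rfl⟩⟩

theorem img_trace {W : Opens X} (h : W ≤ V) : img V ((Opens.map (CohCx.incl V)).obj W) = W := by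
  ext x
  exact ⟨fun ⟨y, hy, e⟩ => e ▸ hy, fun hx => ⟨⟨x, h hx⟩, hx, rfl⟩⟩

/-- Extension by zero of a relative free sheaf. -/
def extZqIso {W : Opens X} (h : W ≤ V) :
    (ext0 V).obj (LocCohZ.zq (le_top : (Opens.map (CohCx.incl V)).obj W ≤ ⊤)) ≅ LocCohZ.zq h :=
  PreservesCokernel.iso (ext0 V) _ ≪≫
    cokernel.mapIso _ _ (extFreeIso V _ W (img_trace V h)) (extFreeIso V ⊤ V (img_top V))
      (extFreeIso_natural V le_top h (img_top V) (img_trace V h))

/-- Excision to the open subspace `V`, naturally in the sheaf. -/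
theorem exists_HZ_addEquiv_restr {W : Opens X} (h : W ≤ V) (i : ℕ) :
    ∃ e : ∀ F : CohTop.Ab X,
        LocCohZ.HZ F i h ≃+ LocCohZ.HZc (CohTop.restr F V) i ((Opens.map (CohCx.incl V)).obj W),
      ∀ (F G : CohTop.Ab X) (φ : F ⟶ G) (x : LocCohZ.HZ F i h),
        e G (LocCohZ.map φ i h x) =
          LocCohZ.map ((CohTop.restrFunctor V).map φ) i
            (le_top : (Opens.map (CohCx.incl V)).obj W ≤ ⊤) (e F x) := by
  haveI := ExtByZero.preservesFiniteLimits_ext0 V
  haveI : (ext0 V).PreservesMonomorphisms := preservesMonomorphisms_of_preservesLimitsOfShape _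
  haveI : PreservesFiniteLimits (CohTop.restrFunctor V) :=
    haveI : PreservesFiniteLimits (CohTop.pull (CohCx.incl V)) := SiteBase.preservesFiniteLimits_pull _
    preservesFiniteLimits_of_natIso (pullIso V)
  haveI : PreservesFiniteColimits (CohTop.restrFunctor V) :=
    haveI := preservesFiniteColimits_pull (CohCx.incl V)
    preservesFiniteColimits_of_natIso (pullIso V)
  let A := LocCohZ.zq (le_top : (Opens.map (CohCx.incl V)).obj W ≤ ⊤)
  let t : (ext0 V).obj A ≅ LocCohZ.zq h := extZqIso V h
  let f : ∀ F : CohTop.Ab X, LocCohZ.HZ F i h →+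
      LocCohZ.HZc (CohTop.restr F V) i ((Opens.map (CohCx.incl V)).obj W) := fun F =>
    (EtMVLib.adjExtMap (adj V) A F i).comp
      ((Ext.mk₀ t.hom).precomp F (zero_add i))
  have hb : ∀ F, Function.Bijective (f F) := fun F =>
    (EtMVLib.adjExtMap_bijective (adj V) A F i).comp
      (Function.bijective_iff_has_inverse.2 ⟨fun y => (Ext.mk₀ t.inv).comp y (zero_add i),
        fun x => by
          show (Ext.mk₀ t.inv).comp ((Ext.mk₀ t.hom).comp x (zero_add i)) (zero_add i) = x
          rw [Ext.mk₀_comp_mk₀_assoc, t.inv_hom_id, Ext.mk₀_id_comp],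
        fun y => by
          show (Ext.mk₀ t.hom).comp ((Ext.mk₀ t.inv).comp y (zero_add i)) (zero_add i) = y
          rw [Ext.mk₀_comp_mk₀_assoc, t.hom_inv_id, Ext.mk₀_id_comp]⟩)
  refine ⟨fun F => AddEquiv.ofBijective (f F) (hb F), fun F G φ x => ?_⟩
  show EtMVLib.adjExtMap (adj V) A G i ((Ext.mk₀ t.hom).comp (x.comp (Ext.mk₀ φ) (add_zero i)) (zero_add i)) =
    (EtMVLib.adjExtMap (adj V) A F i ((Ext.mk₀ t.hom).comp x (zero_add i))).comp
      (Ext.mk₀ ((CohTop.restrFunctor V).map φ)) (add_zero i)
  rw [← Ext.comp_assoc_of_third_deg_zero, EtMVLib.adjExtMap_comp, Ext.mapExactFunctor_mk₀]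

end Groth.Agent.LCZLib

end
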