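import Groth.Agent.KCLib.Supports
import Groth.Agent.LCZLib.DepthGlobal
import Groth.Agent.LCZLib.HZRestr
import Groth.Agent.RGammaI.KoszulInf
import Groth.Agent.LC.DepthLoc
import Groth.Agent.LC.CdDim
import Groth.Agent.QCoh.Support
import Groth.Agent.S6026

/-!
# Local cohomology sheaves vanish above the dimension of the local rings
-/

set_option autoImplicit false
set_option linter.style.haveILetI false
set_option backward.isDefEq.respectTransparency false
set_option backward.isDefEq.respectTransparency.types false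

universe u

open CategoryTheory CategoryTheory.Limits AlgebraicGeometry TopologicalSpace Opposite

noncomputable section

namespace Groth.Agent.LCZLib

open Groth.Agent.QCoh

variable {X : Scheme.{u}}

theorem subsingleton_H_of_forall_prime {R : Type u} [CommRing R] [IsNoetherianRing R] (I : Ideal R)
    (M : Type u) [AddCommGroup M] [Module R M] (i : ℕ)
    (h : ∀ p : PrimeSpectrum R, I ≤ p.asIdeal → ringKrullDim (Localization.AtPrime p.asIdeal) < (i : WithBot ℕ∞)) :
    Subsingleton ((localCohomology I i).obj (ModuleCat.of R M)) := by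
  refine (Module.support_eq_empty_iff (R := R)).1 (Set.eq_empty_iff_forall_notMem.2 fun p hp => ?_)
  have hI := LC.le_prime_of_mem_support_H I M hp
  obtain ⟨e⟩ := LC.exists_localizedH I M p.asIdeal i
  haveI : Subsingleton ((localCohomology (I.map (algebraMap R (Localization.AtPrime p.asIdeal))) i).obj
      (ModuleCat.of (Localization.AtPrime p.asIdeal) (LocalizedModule p.asIdeal.primeCompl M))) :=
    LC.subsingleton_H_of_supportDim_lt _ _ i ((Module.supportDim_le_ringKrullDim _ _).trans_lt (h p hI))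
  haveI := e.toEquiv.subsingleton
  exact @not_subsingleton _ (Module.mem_support_iff.1 hp) this

theorem subsingleton_HZM_of_dim [IsAffine X] [IsLocallyNoetherian X] (G : X.Modules) (hG : Coh.IsCoh G)
    (U : X.Opens) (i : ℕ) (hi : ∀ x : X, x ∉ U → ringKrullDim (X.presheaf.stalk x) < (i : WithBot ℕ∞)) :
    Subsingleton (LocCohZ.HZM X G i U) := by
  classical
  have hX := isAffineOpen_top X
  haveI := hG.1
  haveI hN : IsNoetherianRing Γ(X, ⊤) := IsLocallyNoetherian.component_noetherian ⟨⊤, hX⟩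
  haveI : NoetherianSpace X := noetherianSpace_of_isAffine
  obtain ⟨g, hg⟩ : ∃ g : List Γ(X, ⊤), ⨆ k, KCLib.cv g k = U := by
    have h1 : ∀ x : U, ∃ f : Γ(X, ⊤), X.basicOpen f ≤ U ∧ x.1 ∈ X.basicOpen f := fun x =>
      hX.exists_basicOpen_le x trivial
    choose f hf hxf using h1
    obtain ⟨s, hs⟩ := (NoetherianSpace.isCompact (U : Set X)).elim_finite_subcover
      (fun x : U => (X.basicOpen (f x) : Set X)) (fun x => (X.basicOpen (f x)).2)
      fun x hx => Set.mem_iUnion.2 ⟨⟨x, hx⟩, hxf _⟩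
    refine ⟨s.toList.map f, le_antisymm (iSup_le fun k => ?_) fun x hx => ?_⟩
    · obtain ⟨y, -, hy⟩ := List.mem_map.1 (List.get_mem (s.toList.map f) k.down)
      show X.basicOpen ((s.toList.map f).get k.down) ≤ U
      rw [← hy]
      exact hf y
    · obtain ⟨y, hys, hxy⟩ := Set.mem_iUnion₂.1 (hs hx)
      obtain ⟨k, hk⟩ := List.mem_iff_get.1 (List.mem_map.2 ⟨y, Finset.mem_toList.2 hys, rfl⟩ :
        f y ∈ s.toList.map f)
      refine Opens.mem_iSup.2 ⟨⟨k⟩, ?_⟩
      show x ∈ X.basicOpen ((s.toList.map f).get k)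
      rw [hk]
      exact hxy
  obtain ⟨e1⟩ := KCLib.nonempty_aug_equiv_HZM G g hG.1 hg i
  obtain ⟨e2⟩ := KCLib.nonempty_koszulHLim_equiv_aug G g i
  obtain ⟨e3⟩ := RGammaI.nonempty_H_equiv_koszulHLim (KCLib.gammaMod G) g i
  haveI : Subsingleton ((localCohomology (RGammaI.idl g) i).obj (KCLib.gammaMod G)) := by
    refine subsingleton_H_of_forall_prime _ _ i fun p hp => ?_
    let x : X := hX.fromSpec p
    have hx : x ∉ U := fun hxU => by
      rw [← hg] at hxU
      obtain ⟨k, hk⟩ := Opens.mem_iSup.1 hxU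
      have h1 : p ∈ hX.fromSpec ⁻¹ᵁ X.basicOpen (g.get k.down) := hk
      rw [hX.fromSpec_preimage_basicOpen] at h1
      exact h1 (hp (Ideal.subset_span (List.get_mem g k.down)))
    letI := (X.presheaf.germ ⊤ x trivial).hom.toAlgebra
    haveI : IsLocalization.AtPrime (X.presheaf.stalk x) p.asIdeal := hX.isLocalization_stalk' p trivial
    rw [IsLocalization.AtPrime.ringKrullDim_eq_height p.asIdeal (Localization.AtPrime p.asIdeal),
      ← IsLocalization.AtPrime.ringKrullDim_eq_height p.asIdeal (X.presheaf.stalk x)]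
    exact hi x hx
  haveI := e3.symm.toEquiv.subsingleton
  haveI := e2.symm.toEquiv.subsingleton
  exact e1.symm.toEquiv.subsingleton

/-- Vanishing on affine opens kills the sheaf. -/
theorem isZero_HZsh_of_affine (U : X.Opens) (F : CohTop.Ab X.toPresheafedSpace.carrier) (i : ℕ)
    (hF : ∀ A : X.Opens, IsAffineOpen A →
      Subsingleton (LocCohZ.HZ (X := X.toPresheafedSpace.carrier) F i (inf_le_right : U ⊓ A ≤ A))) :
    IsZero ((LocCohZ.HZsh (X := X.toPresheafedSpace.carrier) U i).obj F) := by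
  refine IsZero.of_iso (SiteBase.isZero_sheafify ((hzPsh (X := X.toPresheafedSpace.carrier) U i).obj F) fun V y => ?_)
    ((HZshIso (X := X.toPresheafedSpace.carrier) U i).app F)
  let S : Sieve V :=
    { arrows := fun W _ => ∃ A : X.Opens, IsAffineOpen A ∧ W ≤ A ∧ A ≤ V
      downward_closed := by
        rintro W W' g ⟨A, hA, hWA, hAV⟩ h
        exact ⟨A, hA, (leOfHom h).trans hWA, hAV⟩ }
  refine ⟨S, fun x hx => ?_, ?_⟩
  · obtain ⟨_, ⟨A, hA, rfl⟩, hxA, hAV⟩ := X.isBasis_affineOpens.exists_subset_of_mem_open hx V.2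
    exact ⟨A, homOfLE hAV, ⟨A, hA, le_rfl, hAV⟩, hxA⟩
  · rintro W g ⟨A, hA, hWA, hAV⟩
    haveI := hF A hA
    rw [show g = homOfLE hWA ≫ homOfLE hAV from Subsingleton.elim _ _, op_comp, Functor.map_comp]
    show ((hzPsh (X := X.toPresheafedSpace.carrier) U i).obj F).map (homOfLE hWA).op _ = 0
    exact (congrArg _ (@Subsingleton.elim _ (hF A hA) _ 0)).trans (map_zero _)

/-- Local cohomology sheaves of coherent modules vanish above the dimension. -/
theorem isZero_HZsh_of_dim_lt [IsLocallyNoetherian X] (U : X.Opens) (G : X.Modules) (hG : Coh.IsCoh G) (i : ℕ)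
    (hi : ∀ x : X, x ∉ U → ringKrullDim (X.presheaf.stalk x) < (i : WithBot ℕ∞)) :
    IsZero ((LocCohZ.HZsh (X := X.toPresheafedSpace.carrier) U i).obj (Coh.toAb G)) := by
  refine isZero_HZsh_of_affine U _ i fun A hA => ?_
  haveI : IsAffine A.toScheme := hA
  haveI : IsLocallyNoetherian A.toScheme := isLocallyNoetherian_of_isOpenImmersion A.ι
  obtain ⟨e, -⟩ := Groth.Agent.S6026.result (X := X.toPresheafedSpace.carrier) (inf_le_right : U ⊓ A ≤ A) i
  have h : Subsingleton (LocCohZ.HZM A.toScheme (G.restrict A.ι) i (A.ι ⁻¹ᵁ (U ⊓ A))) := by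
    refine subsingleton_HZM_of_dim _ (isCoh_restrict_open hG) _ i fun x hx => ?_
    have hx' : x.1 ∉ U := fun h => hx ⟨h, x.2⟩
    rw [ringKrullDim_eq_of_ringEquiv (asIso (A.ι.stalkMap x)).commRingCatIsoToRingEquiv.symm]
    exact hi x.1 hx'
  exact @Function.Injective.subsingleton _ _ _ (e (Coh.toAb G)).injective h

end Groth.Agent.LCZLib

end
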