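import Groth.Agent.LCZLib.AboveDim
import Groth.Agent.LCZLib.Seq
import Groth.Agent.QCoh.Bound

/-!
# Local cohomology sheaves vanish above the number of equations
-/

set_option autoImplicit false
set_option linter.style.haveILetI false
set_option backward.isDefEq.respectTransparency false
set_option backward.isDefEq.respectTransparency.types false

universe u

open CategoryTheory CategoryTheory.Limits AlgebraicGeometry TopologicalSpace Opposite

noncomputable section

namespace Groth.Agent.LCZLib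

open Groth.Agent.QCoh

variable {X : Scheme.{u}}

/-- Vanishing on small affine opens kills the sheaf. -/
theorem isZero_HZsh_of_small_affine (U : X.Opens) (F : CohTop.Ab X.toPresheafedSpace.carrier) (i : ℕ)
    (P : X.Opens → Prop)
    (hP : ∀ (x : X) (W : X.Opens), x ∈ W → ∃ A : X.Opens, IsAffineOpen A ∧ P A ∧ x ∈ A ∧ A ≤ W)
    (hF : ∀ A : X.Opens, IsAffineOpen A → P A →
      Subsingleton (LocCohZ.HZ (X := X.toPresheafedSpace.carrier) F i (inf_le_right : U ⊓ A ≤ A))) :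
    IsZero ((LocCohZ.HZsh (X := X.toPresheafedSpace.carrier) U i).obj F) := by
  refine IsZero.of_iso (SiteBase.isZero_sheafify ((hzPsh (X := X.toPresheafedSpace.carrier) U i).obj F) fun V y => ?_)
    ((HZshIso (X := X.toPresheafedSpace.carrier) U i).app F)
  let S : Sieve V :=
    { arrows := fun W _ => ∃ A : X.Opens, IsAffineOpen A ∧ P A ∧ W ≤ A ∧ A ≤ V
      downward_closed := by
        rintro W W' g ⟨A, hA, hPA, hWA, hAV⟩ h
        exact ⟨A, hA, hPA, (leOfHom h).trans hWA, hAV⟩ }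
  refine ⟨S, fun x hx => ?_, ?_⟩
  · obtain ⟨A, hA, hPA, hxA, hAV⟩ := hP x V hx
    exact ⟨A, homOfLE hAV, ⟨A, hA, hPA, le_rfl, hAV⟩, hxA⟩
  · rintro W g ⟨A, hA, hPA, hWA, hAV⟩
    rw [show g = homOfLE hWA ≫ homOfLE hAV from Subsingleton.elim _ _, op_comp, Functor.map_comp]
    show ((hzPsh (X := X.toPresheafedSpace.carrier) U i).obj F).map (homOfLE hWA).op _ = 0
    exact (congrArg _ (@Subsingleton.elim _ (hF A hA hPA) _ 0)).trans (map_zero _)

/-- Local cohomology sheaves vanish above the number of local equations. -/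
theorem isZero_HZshM_of_equations [HasInjectiveResolutions X.Modules] (U : X.Opens) (c : ℕ)
    (hT : ∀ x : X, ∃ (V : X.Opens) (fs : Finset Γ(X, V)), x ∈ V ∧ fs.card ≤ c ∧
      X.zeroLocus (U := V) (↑fs : Set Γ(X, V)) ∩ (V : Set ↥X) = (U : Set ↥X)ᶜ ∩ (V : Set ↥X))
    (F : X.Modules) (hF : Coh.IsQCoh F) (i : ℕ) (hi : c < i) :
    IsZero ((LocCohZ.HZshM U.ι i).obj F) := by
  classical
  obtain ⟨k, rfl⟩ : ∃ k, i = k + 1 := ⟨i - 1, by omega⟩
  refine (isZero_HZshM_iff U F (k + 1)).1 ?_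
  refine isZero_HZsh_of_small_affine U _ (k + 1)
    (fun A => ∃ (t : ℕ) (g : Fin t → Γ(X, A)), t ≤ c ∧ U ⊓ A = ⨆ m, X.basicOpen (g m)) (fun x W hxW => ?_) ?_
  · obtain ⟨V, fs, hxV, hcard, hz⟩ := hT x
    obtain ⟨_, ⟨A, hA, rfl⟩, hxA, hAW⟩ :=
      X.isBasis_affineOpens.exists_subset_of_mem_open (a := x) (show x ∈ (W ⊓ V : X.Opens) from ⟨hxW, hxV⟩) (W ⊓ V).2
    have hAV : A ≤ V := fun y hy => (hAW hy).2
    refine ⟨A, hA, ⟨fs.card, fun m => X.presheaf.map (homOfLE hAV).op (fs.equivFin.symm m).1, hcard, ?_⟩,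
      hxA, fun y hy => (hAW hy).1⟩
    ext y
    simp only [Scheme.basicOpen_res, Opens.coe_inf, Opens.coe_iSup, Set.mem_inter_iff, Set.mem_iUnion]
    have hy' := fun h : y ∈ V => Set.ext_iff.1 hz y
    constructor
    · rintro ⟨hyU, hyA⟩
      by_contra hne
      have hzero : y ∈ X.zeroLocus (U := V) (↑fs : Set Γ(X, V)) := by
        rw [Scheme.mem_zeroLocus_iff]
        intro f hf hyf
        refine hne ⟨fs.equivFin ⟨f, hf⟩, hyA, ?_⟩
        rw [Equiv.symm_apply_apply]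
        exact hyf
      exact ((hy' (hAV hyA)).1 ⟨hzero, hAV hyA⟩).1 hyU
    · rintro ⟨m, hyA, hyf⟩
      refine ⟨by_contra fun hyU => ?_, hyA⟩
      exact (Scheme.mem_zeroLocus_iff _ _ _).1 ((hy' (hAV hyA)).2 ⟨hyU, hAV hyA⟩).1 _ (fs.equivFin.symm m).2 hyf
  · rintro A hA ⟨t, g, ht, hUA⟩
    have h1 : Subsingleton (CohTop.HU (X := X.toPresheafedSpace.carrier) (abSheaf F) k (U ⊓ A)) := by
      rw [hUA]
      exact subsingleton_HU_iSup hF (fun W => ∃ a : Γ(X, A), W = X.basicOpen a)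
        (fun W ⟨a, ha⟩ => ha ▸ hA.basicOpen a)
        (fun W W' ⟨a, ha⟩ ⟨b, hb⟩ => ⟨a * b, by rw [ha, hb, Scheme.basicOpen_mul]⟩)
        t (fun m => X.basicOpen (g m)) (fun m => ⟨g m, rfl⟩) k (by omega)
    have h2 : Subsingleton (CohTop.HU (X := X.toPresheafedSpace.carrier) (abSheaf F) (k + 1) A) :=
      subsingleton_HU_of_isAffineOpen hF hA k
    refine subsingleton_of_forall_eq 0 fun y => ?_
    obtain ⟨w, rfl⟩ := exact_toHU (X := X.toPresheafedSpace.carrier) _ (inf_le_right : U ⊓ A ≤ A) k y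
      (@Subsingleton.elim _ h2 _ _)
    rw [@Subsingleton.elim _ h1 w 0]
    exact map_zero _

end Groth.Agent.LCZLib

end
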