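import Groth.Agent.LCZLib.Open
import Groth.Agent.SiteBase.SuppInj

/-!
# The right adjoint of extension by zero from a closed subset
-/

set_option autoImplicit false
set_option linter.style.haveILetI false

universe u

open CategoryTheory CategoryTheory.Limits Opposite TopologicalSpace TopCat Topology

noncomputable section

namespace Groth.Agent.LCZLib

variable {X : TopCat.{u}} (U : Opens X)

theorem comp_unit_eq_zero (G : CohTop.Ab (TopCat.of ((U : Set X)ᶜ : Set X))) (F : CohTop.Ab X)
    (a : (CohTop.push (CohCx.inclCompl U)).obj G ⟶ F) : a ≫ (unitU U).app F = 0 :=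
  ((ClosedEmb.pAdj (CohCx.incl U)).homEquiv _ _).symm.injective ((ClosedEmb.isZero_pull_push U G).eq_of_src _ _)

/-- Maps out of a sheaf supported in `Z` land in the sections supported in `Z`. -/
def suppHomEquiv (G : CohTop.Ab (TopCat.of ((U : Set X)ᶜ : Set X))) (F : CohTop.Ab X) :
    ((CohTop.push (CohCx.inclCompl U)).obj G ⟶ F) ≃
      ((CohTop.push (CohCx.inclCompl U)).obj G ⟶ (LocCohZ.sectSuppF U).obj F) where
  toFun a := kernel.lift _ a (comp_unit_eq_zero U G F a)
  invFun b := b ≫ (suppι U).app F
  left_inv a := kernel.lift_ι _ a (comp_unit_eq_zero U G F a)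
  right_inv b := (cancel_mono (kernel.ι ((unitU U).app F))).1
    (kernel.lift_ι _ _ (comp_unit_eq_zero U G F (b ≫ (suppι U).app F)))

/-- `Γ_Z F` is the direct image of its pullback to `Z`. -/
def suppPushIso (F : CohTop.Ab X) : (LocCohZ.sectSuppF U).obj F ≅
    (CohTop.push (CohCx.inclCompl U)).obj ((CohTop.pull (CohCx.inclCompl U)).obj ((LocCohZ.sectSuppF U).obj F)) :=
  @asIso _ _ _ _ ((ClosedEmb.pAdj (CohCx.inclCompl U)).unit.app ((LocCohZ.sectSuppF U).obj F))
    (ClosedEmb.isIso_unit (ClosedEmb.isClosedEmbedding_inclCompl U) _ fun x hx =>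
      ClosedEmb.isZero_stalk_sectSupp U F x ((ClosedEmb.not_range_inclCompl_iff U x).1 hx))

/-- The adjunction. -/
def suppAdjunction :
    CohTop.push (CohCx.inclCompl U) ⊣ LocCohZ.sectSuppF U ⋙ CohTop.pull (CohCx.inclCompl U) :=
  haveI := ClosedEmb.push_full (ClosedEmb.isClosedEmbedding_inclCompl U).isInducing
  haveI := ClosedEmb.push_faithful (ClosedEmb.isClosedEmbedding_inclCompl U).isInducing
  Adjunction.mkOfHomEquiv
    { homEquiv := fun G F => (suppHomEquiv U G F).trans ((Iso.homCongr (Iso.refl _) (suppPushIso U F)).trans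
        (Functor.FullyFaithful.ofFullyFaithful (CohTop.push (CohCx.inclCompl U))).homEquiv.symm)
      homEquiv_naturality_left_symm := fun {G' G F} f g => by
        simp only [Equiv.symm_trans_apply, Equiv.symm_symm, suppHomEquiv, Equiv.coe_fn_symm_mk,
          Functor.FullyFaithful.homEquiv_apply, Functor.map_comp, Iso.homCongr_symm, Iso.homCongr_apply, Iso.refl_symm,
          Iso.refl_inv, Category.id_comp, Category.assoc, Iso.symm_hom]
      homEquiv_naturality_right := fun {G F F'} f g => by
        apply (CohTop.push (CohCx.inclCompl U)).map_injective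
        have hn : (LocCohZ.sectSuppF U).map g ≫ (suppPushIso U F').hom = (suppPushIso U F).hom ≫
            (CohTop.push (CohCx.inclCompl U)).map ((CohTop.pull (CohCx.inclCompl U)).map ((LocCohZ.sectSuppF U).map g)) :=
          (ClosedEmb.pAdj (CohCx.inclCompl U)).unit.naturality ((LocCohZ.sectSuppF U).map g)
        have hl : kernel.lift _ (f ≫ g) (comp_unit_eq_zero U G F' (f ≫ g)) =
            kernel.lift _ f (comp_unit_eq_zero U G F f) ≫ (LocCohZ.sectSuppF U).map g := by
          apply (cancel_mono (kernel.ι ((unitU U).app F'))).1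
          refine (kernel.lift_ι _ _ _).trans ?_
          refine Eq.trans ?_ (Category.assoc _ _ _).symm
          refine Eq.trans ?_ (congrArg (_ ≫ ·) ((suppι U).naturality g)).symm
          refine Eq.trans ?_ (Category.assoc _ _ _)
          exact congrArg (· ≫ g) (kernel.lift_ι _ _ _).symm
        simp only [Equiv.trans_apply, suppHomEquiv, Equiv.coe_fn_mk, Functor.map_comp,
          Functor.FullyFaithful.homEquiv_symm_apply, Functor.FullyFaithful.map_preimage,
          Iso.homCongr_apply, Iso.refl_inv, Category.id_comp, Functor.comp_map]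
        exact (congrArg (· ≫ (suppPushIso U F').hom) hl).trans ((Category.assoc _ _ _).trans
          ((congrArg (_ ≫ ·) hn).trans (Category.assoc _ _ _).symm)) }

end Groth.Agent.LCZLib

end
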