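import Groth.Agent.LCZLib.Pres
import Mathlib.Topology.Sheaves.SheafCondition.UniqueGluing

/-!
# Sections with supports of a flasque sheaf form a flasque sheaf
-/

set_option autoImplicit false
set_option linter.style.haveILetI false

universe u

open CategoryTheory CategoryTheory.Limits Opposite TopologicalSpace TopCat Topology

noncomputable section

namespace Groth.Agent.LCZLib

variable {X : TopCat.{u}} (U : Opens X)

theorem res_res' (F : CohTop.Ab X) {A B C : Opens X} (i : A ⟶ B) (j : B ⟶ C) (k : A ⟶ C) (s : F.obj.obj (op C)) :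
    F.obj.map i.op (F.obj.map j.op s) = F.obj.map k.op s := by
  rw [← ConcreteCategory.comp_apply, ← F.obj.map_comp]
  rfl

theorem isFlasque_sectSuppF (F : CohTop.Ab X) [hF : TopCat.Sheaf.IsFlasque F] :
    TopCat.Sheaf.IsFlasque ((LocCohZ.sectSuppF U).obj F) where
  epi {W V} i := by
    obtain ⟨W⟩ := W
    obtain ⟨V⟩ := V
    rw [AddCommGrpCat.epi_iff_surjective]
    intro t
    have hVW : V ≤ W := leOfHom i.unop
    have ht : F.obj.map (homOfLE (inf_le_right : U ⊓ V ≤ V)).op (incl U F V t) = 0 :=
      (range_incl U F V _).1 ⟨t, rfl⟩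
    let D : Opens X := V ⊔ (U ⊓ W)
    let Ui : Bool → Opens X := fun b => if b then V else U ⊓ W
    have iD : ∀ b, Ui b ≤ D := fun b => by cases b <;> simp [Ui, D]
    let sf : ∀ b, F.obj.obj (op (Ui b)) := fun b => match b with
      | true => incl U F V t
      | false => 0
    have hc : TopCat.Presheaf.IsCompatible F.obj Ui sf := by
      intro a b
      cases a <;> cases b
      · rfl
      · refine (map_zero _).trans (Eq.symm ?_)
        have hle : (U ⊓ W) ⊓ V ≤ U ⊓ V := le_inf (inf_le_left.trans inf_le_left) inf_le_right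
        refine (res_res' F (homOfLE hle) (homOfLE inf_le_right) _ (incl U F V t)).symm.trans ?_
        exact (congrArg _ ht).trans (map_zero _)
      · refine Eq.trans ?_ (map_zero _).symm
        have hle : V ⊓ (U ⊓ W) ≤ U ⊓ V := le_inf (inf_le_right.trans inf_le_left) inf_le_left
        refine (res_res' F (homOfLE hle) (homOfLE inf_le_right) _ (incl U F V t)).symm.trans ?_
        exact (congrArg _ ht).trans (map_zero _)
      · rfl
    obtain ⟨d, hd, -⟩ := TopCat.Sheaf.existsUnique_gluing' F Ui D (fun b => homOfLE (iD b))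
      (sup_le (le_iSup Ui true) (le_iSup Ui false)) sf hc
    obtain ⟨s, hs⟩ := (AddCommGrpCat.epi_iff_surjective _).1
      (hF.epi (homOfLE (sup_le hVW inf_le_right : D ≤ W)).op) d
    obtain ⟨t', ht'⟩ := (range_incl U F W s).2 (by
      refine (res_res' F (homOfLE (iD false)) (homOfLE (sup_le hVW inf_le_right : D ≤ W)) _ s).symm.trans ?_
      exact (congrArg _ hs).trans (hd false))
    refine ⟨t', incl_injective U F V ?_⟩
    refine (incl_res U F i.unop t').trans ?_
    refine (congrArg _ ht').trans ?_
    refine (res_res' F (homOfLE (iD true)) (homOfLE (sup_le hVW inf_le_right : D ≤ W)) _ s).symm.trans ?_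
    exact (congrArg _ hs).trans (hd true)

end Groth.Agent.LCZLib

end
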