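import Groth.Agent.LCZLib.AboveEquations
import Groth.Agent.PushAmp.KoszulPowers
import Groth.Agent.KFlatLib.Scheme.Amplitude
import Groth.Agent.KFlatLib.Scheme.TildeAmp
import Groth.Agent.QCoh.Stalk

/-!
# Local cohomology sheaves of a Koszul-regular closed subset
-/

set_option autoImplicit false
set_option linter.style.haveILetI false
set_option backward.isDefEq.respectTransparency false
set_option backward.isDefEq.respectTransparency.types false

universe u

open CategoryTheory CategoryTheory.Limits AlgebraicGeometry TopologicalSpace Opposite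

noncomputable section

namespace Groth.Agent.LCZLib

open Groth.Agent.QCoh

theorem subsingleton_koszulHLim_of_lt {R : Type u} [CommRing R] (M : ModuleCat.{u} R) [Module.Flat R M]
    (l : List R) (hl : LCI.IsKoszulRegularSeq R l) (p : ℕ) (hp : p < l.length) :
    Subsingleton (CohIII.koszulHLim l M p) := by
  haveI : ∀ n, Subsingleton (CohIII.koszulHPow l M p n) := fun n =>
    ModuleCat.subsingleton_of_isZero (PushAmp.negVanish_koszulCx_pow M l hl n _ (by omega))
  refine subsingleton_of_forall_eq 0 fun x => ?_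
  induction x using Module.DirectLimit.induction_on with
  | _ n x =>
    rw [show x = 0 from Subsingleton.elim _ _]
    exact map_zero _

variable {X : Scheme.{u}}

/-- Local cohomology sheaves vanish away from the length of a regular sequence. -/
theorem isZero_HZshM_of_koszulRegular [HasInjectiveResolutions X.Modules] (U : X.Opens) (c : ℕ)
    (hZ : ∀ x : X, ∃ (V : X.Opens) (fs : List Γ(X, V)), x ∈ V ∧ IsAffineOpen V ∧ fs.length = c ∧
      LCI.IsKoszulRegularSeq Γ(X, V) fs ∧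
      X.zeroLocus (U := V) {a | a ∈ fs} ∩ (V : Set ↥X) = (U : Set ↥X)ᶜ ∩ (V : Set ↥X))
    (F : X.Modules) (hF : Coh.IsQCoh F) (hFl : FlatMod.IsFlat F) (i : ℕ) (hi : i ≠ c) :
    IsZero ((LocCohZ.HZshM U.ι i).obj F) := by
  classical
  rcases lt_or_gt_of_ne hi with hi | hi
  swap
  · refine isZero_HZshM_of_equations U c (fun x => ?_) F hF i hi
    obtain ⟨V, fs, hx, -, hlen, -, hz⟩ := hZ x
    exact ⟨V, fs.toFinset, hx, hlen ▸ List.toFinset_card_le fs, by rwa [List.coe_toFinset]⟩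
  refine (isZero_HZshM_iff U F i).1 ?_
  refine isZero_HZsh_of_small_affine U _ i
    (fun A => ∃ g : List Γ(X, A), g.length = c ∧ LCI.IsKoszulRegularSeq Γ(X, A) g ∧
      U ⊓ A = ⨆ k : Fin g.length, X.basicOpen (g.get k)) (fun x W hxW => ?_) ?_
  · obtain ⟨V, fs, hxV, hV, hlen, hreg, hz⟩ := hZ x
    obtain ⟨_, ⟨A, hA, rfl⟩, hxA, hAW⟩ :=
      X.isBasis_affineOpens.exists_subset_of_mem_open (a := x) (show x ∈ (W ⊓ V : X.Opens) from ⟨hxW, hxV⟩) (W ⊓ V).2
    have hAV : A ≤ V := fun y hy => (hAW hy).2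
    let φ := (X.presheaf.map (homOfLE hAV).op).hom
    have hφ : φ.Flat := by
      have := Flat.flat_appLE (𝟙 X) hV hA (show A ≤ (𝟙 X : X ⟶ X) ⁻¹ᵁ V from hAV)
      simpa [φ, Scheme.Hom.appLE] using this
    refine ⟨A, hA, ⟨fs.map φ, by simpa using hlen, PushAmp.isKoszulRegularSeq_map φ hφ fs hreg, ?_⟩,
      hxA, fun y hy => (hAW hy).1⟩
    ext y
    simp only [Opens.coe_inf, Opens.coe_iSup, Set.mem_inter_iff, Set.mem_iUnion]
    have hy' := Set.ext_iff.1 hz y
    constructor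
    · rintro ⟨hyU, hyA⟩
      by_contra hne
      have hzero : y ∈ X.zeroLocus (U := V) {a | a ∈ fs} := by
        rw [Scheme.mem_zeroLocus_iff]
        intro f hf hyf
        obtain ⟨k, hk⟩ := List.mem_iff_get.1 (List.mem_map.2 ⟨f, hf, rfl⟩ : φ f ∈ fs.map φ)
        refine hne ⟨k, ?_⟩
        rw [hk]
        exact (Scheme.basicOpen_res X f (homOfLE hAV).op).ge ⟨hyA, hyf⟩
      exact (hy'.1 ⟨hzero, hAV hyA⟩).1 hyU
    · rintro ⟨k, hk⟩
      obtain ⟨f, hf, hfk⟩ := List.mem_map.1 (List.get_mem (fs.map φ) k)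
      rw [← hfk] at hk
      obtain ⟨hyA, hyf⟩ := (Scheme.basicOpen_res X f (homOfLE hAV).op).le hk
      exact ⟨by_contra fun hyU => (Scheme.mem_zeroLocus_iff _ _ _).1 (hy'.2 ⟨hyU, hAV hyA⟩).1 f hf hyf, hyA⟩
  · rintro A hA ⟨g, hlen, hreg, hUA⟩
    haveI : IsAffine A.toScheme := hA
    obtain ⟨e, -⟩ := Groth.Agent.S6026.result (X := X.toPresheafedSpace.carrier) (inf_le_right : U ⊓ A ≤ A) i
    let ψ := (A.ι.appLE A ⊤ (le_of_eq (A.ι_preimage_self).symm)).hom
    have hψ : ψ.Flat := Flat.flat_appLE A.ι hA (isAffineOpen_top A.toScheme) _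
    have hU' : ⨆ k, KCLib.cv (g.map ψ) k = A.ι ⁻¹ᵁ (U ⊓ A) := by
      refine TopologicalSpace.Opens.ext (Set.ext fun y => ?_)
      simp only [Opens.coe_iSup, Set.mem_iUnion, SetLike.mem_coe]
      have hb : ∀ a : Γ(X, A), y ∈ A.toScheme.basicOpen (ψ a) ↔ A.ι y ∈ X.basicOpen a := fun a => by
        show y ∈ A.toScheme.basicOpen (A.toScheme.presheaf.map _ (A.ι.app A a)) ↔ _
        rw [Scheme.basicOpen_res, ← Scheme.preimage_basicOpen]
        exact ⟨fun h => h.2, fun h => ⟨trivial, h⟩⟩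
      rw [show (y ∈ A.ι ⁻¹ᵁ (U ⊓ A)) = (A.ι y ∈ U ⊓ A) from rfl, hUA, Opens.mem_iSup]
      constructor
      · rintro ⟨k, hk⟩
        obtain ⟨a, ha, hak⟩ := List.mem_map.1 (List.get_mem (g.map ψ) k.down)
        obtain ⟨k', hk'⟩ := List.mem_iff_get.1 ha
        exact ⟨k', by rw [hk', ← hb, hak]; exact hk⟩
      · rintro ⟨k', hk'⟩
        obtain ⟨k, hk⟩ := List.mem_iff_get.1 (List.mem_map.2 ⟨g.get k', List.get_mem g k', rfl⟩ : ψ (g.get k') ∈ g.map ψ)
        refine ⟨⟨k⟩, ?_⟩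
        show y ∈ A.toScheme.basicOpen ((g.map ψ).get k)
        rw [hk, hb]
        exact hk'
    let F' := F.restrict A.ι
    have hF' : Coh.IsQCoh F' := QCoh.isQCoh_restrict A.ι hF
    have hFl' : FlatMod.IsFlat F' :=
      KFlatLib.isFlat_of_iso' ((Scheme.Modules.restrictFunctorIsoPullback A.ι).app F).symm (KFlatLib.isFlat_pullback A.ι hFl)
    haveI : Module.Flat Γ(A.toScheme, ⊤) (KCLib.gammaMod F') :=
      (QCoh.flat_sections_iff hF' (isAffineOpen_top A.toScheme)).2 fun x _ => hFl' x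
    haveI := subsingleton_koszulHLim_of_lt (KCLib.gammaMod F') (g.map ψ)
      (PushAmp.isKoszulRegularSeq_map ψ hψ g hreg) i (by simp [hlen, hi])
    obtain ⟨e2⟩ := KCLib.nonempty_koszulHLim_equiv_aug F' (g.map ψ) i
    obtain ⟨e3⟩ := KCLib.nonempty_aug_equiv_HZM F' (g.map ψ) hF' hU' i
    have h : Subsingleton (LocCohZ.HZM A.toScheme F' i (A.ι ⁻¹ᵁ (U ⊓ A))) := by
      haveI := e2.symm.toEquiv.subsingleton
      exact e3.symm.toEquiv.subsingleton
    exact @Function.Injective.subsingleton _ _ _ (e (Coh.toAb F)).injective h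

end Groth.Agent.LCZLib

end
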