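import Groth.Prelude.Def_LocCohZ
import Groth.Agent.SiteBase.DerivedKernel
import Groth.Agent.SiteBase.DerivedPrecomp
import Groth.Agent.SiteBase.ExtByZero
import Groth.Agent.SuppFamLib.Derived
import Mathlib.Topology.Sheaves.Flasque

/-!
# Sections with supports in a closed subset and the open complement
-/

set_option autoImplicit false
set_option linter.style.haveILetI false

universe u

open CategoryTheory CategoryTheory.Limits Opposite TopologicalSpace TopCat Topology

noncomputable section

namespace Groth.Agent.LCZLib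

variable {X : TopCat.{u}} (U : Opens X)

local notation "JX" => Opens.grothendieckTopology X
/-- The unit of the open inclusion. -/
abbrev unitU : 𝟭 (CohTop.Ab X) ⟶ CohTop.pull (CohCx.incl U) ⋙ CohTop.push (CohCx.incl U) :=
  (TopCat.Sheaf.pullbackPushforwardAdjunction AddCommGrpCat.{u} (CohCx.incl U)).unit

/-- Inverse image along an open inclusion is restriction. -/
def pullIso : CohTop.pull (CohCx.incl U) ≅ CohTop.restrFunctor U :=
  U.isOpenEmbedding.sheafPullbackIso AddCommGrpCat.{u}

instance additive_pull {Y : TopCat.{u}} (f : Y ⟶ X) : (CohTop.pull f).Additive :=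
  haveI : (TopCat.Sheaf.pushforward AddCommGrpCat.{u} f).Additive := ⟨fun {_ _ _ _} => rfl⟩
  (TopCat.Sheaf.pullbackPushforwardAdjunction AddCommGrpCat.{u} f).left_adjoint_additive

instance preservesFiniteColimits_pull {Y : TopCat.{u}} (f : Y ⟶ X) : PreservesFiniteColimits (CohTop.pull f) :=
  ⟨fun J _ _ => ((TopCat.Sheaf.pullbackPushforwardAdjunction AddCommGrpCat.{u} f).leftAdjoint_preservesColimits.{0, 0}).preservesColimitsOfShape⟩

instance preservesFiniteLimits_push {Y : TopCat.{u}} (f : Y ⟶ X) : PreservesFiniteLimits (CohTop.push f) :=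
  ⟨fun J _ _ => ((TopCat.Sheaf.pullbackPushforwardAdjunction AddCommGrpCat.{u} f).rightAdjoint_preservesLimits.{0, 0}).preservesLimitsOfShape⟩

theorem injective_restr (F : CohTop.Ab X) (hF : Injective F) : Injective ((CohTop.restrFunctor U).obj F) :=
  haveI := ExtByZero.preservesFiniteLimits_ext0 U
  haveI : (ExtByZero.ext0 U).PreservesMonomorphisms := preservesMonomorphisms_of_preservesLimitsOfShape _
  (ExtByZero.adj U).map_injective F hF

instance preservesInjective_pull : (CohTop.pull (CohCx.incl U)).PreservesInjectiveObjects :=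
  ⟨fun {F} hF => Injective.of_iso ((pullIso U).app F).symm (injective_restr U F hF)⟩

/-- The unit is bijective on opens inside `U`. -/
theorem isIso_unit_app (F : CohTop.Ab X) (W : Opens X) (hW : W ≤ U) :
    IsIso (((unitU U).app F).hom.app (op W)) := by
  haveI : ∀ x : W, IsIso ((TopCat.Presheaf.stalkFunctor AddCommGrpCat.{u} (x : X)).map ((unitU U).app F).hom) := fun x => by
    exact ClosedEmb.isIso_stalk_unit (U.isOpenEmbedding.isInducing : IsInducing (CohCx.incl U)) F ⟨x.1, hW x.2⟩
  exact TopCat.Presheaf.app_isIso_of_stalkFunctor_map_iso ((unitU U).app F) W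

/-- For flasque sheaves the unit is surjective on sections. -/
theorem unit_app_surjective (F : CohTop.Ab X) [hF : TopCat.Sheaf.IsFlasque F] (V : Opens X) :
    Function.Surjective (((unitU U).app F).hom.app (op V)).hom := by
  intro t
  let G := (CohTop.push (CohCx.incl U)).obj ((CohTop.pull (CohCx.incl U)).obj F)
  let i : U ⊓ V ≤ V := inf_le_right
  haveI := isIso_unit_app U F (U ⊓ V) inf_le_left
  obtain ⟨s', hs'⟩ := ((ConcreteCategory.isIso_iff_bijective (((unitU U).app F).hom.app (op (U ⊓ V)))).1 inferInstance).2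
    ((G.obj.map (homOfLE i).op).hom t)
  obtain ⟨s, hs⟩ := (AddCommGrpCat.epi_iff_surjective _).1 (hF.epi (homOfLE i).op) s'
  refine ⟨s, ?_⟩
  have hnat : (G.obj.map (homOfLE i).op).hom ((((unitU U).app F).hom.app (op V)).hom s) =
      (((unitU U).app F).hom.app (op (U ⊓ V))).hom ((F.obj.map (homOfLE i).op).hom s) :=
    (ConcreteCategory.congr_hom (((unitU U).app F).hom.naturality (homOfLE i).op) s).symm
  have hbij : IsIso (G.obj.map (homOfLE i).op) := by
    have e : (Opens.map (CohCx.incl U)).obj V ≤ (Opens.map (CohCx.incl U)).obj (U ⊓ V) := fun x hx => ⟨x.2, hx⟩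
    have he : ((Opens.map (CohCx.incl U)).map (homOfLE i)) = homOfLE ((Opens.map (CohCx.incl U)).map (homOfLE i)).le := rfl
    haveI : IsIso ((Opens.map (CohCx.incl U)).map (homOfLE i)) :=
      ⟨homOfLE e, Subsingleton.elim _ _, Subsingleton.elim _ _⟩
    show IsIso (((CohTop.pull (CohCx.incl U)).obj F).obj.map ((Opens.map (CohCx.incl U)).map (homOfLE i)).op)
    infer_instance
  apply ((ConcreteCategory.isIso_iff_bijective _).1 hbij).1
  exact hnat.trans ((congrArg _ hs).trans hs')

theorem epi_unit_app (F : CohTop.Ab X) [TopCat.Sheaf.IsFlasque F] : Epi ((unitU U).app F) := by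
  refine (sheafToPresheaf JX AddCommGrpCat.{u}).epi_of_epi_map ?_
  haveI : ∀ V, Epi (((sheafToPresheaf JX AddCommGrpCat.{u}).map ((unitU U).app F)).app V) := fun V =>
    (AddCommGrpCat.epi_iff_surjective _).2 (unit_app_surjective U F V.unop)
  exact NatTrans.epi_of_epi_app _

/-- The inclusion of sections with supports. -/
def suppι : LocCohZ.sectSuppF U ⟶ 𝟭 _ where
  app F := kernel.ι _
  naturality _ _ φ := kernel.lift_ι _ _ _

theorem suppι_comp (F : CohTop.Ab X) : (suppι U).app F ≫ (unitU U).app F = 0 := kernel.condition _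

instance preservesFiniteLimits_sectSuppF : PreservesFiniteLimits (LocCohZ.sectSuppF U) := by
  refine (Functor.preservesFiniteLimits_iff_forall_exact_map_and_mono (LocCohZ.sectSuppF U)).2 fun S hS => ?_
  haveI := hS.mono_f
  let P := CohTop.pull (CohCx.incl U) ⋙ CohTop.push (CohCx.incl U)
  haveI : PreservesFiniteLimits (CohTop.pull (CohCx.incl U)) := SiteBase.preservesFiniteLimits_pull _
  haveI : PreservesFiniteLimits (CohTop.push (CohCx.incl U)) := preservesFiniteLimits_push (CohCx.incl U)
  haveI : PreservesFiniteLimits P := comp_preservesFiniteLimits _ _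
  haveI : P.PreservesMonomorphisms := preservesMonomorphisms_of_preservesLimitsOfShape _
  have hm : Mono ((LocCohZ.sectSuppF U).map S.f) := by
    refine ⟨fun {T} a b hab => ?_⟩
    apply (cancel_mono (kernel.ι ((unitU U).app S.X₁))).1
    apply (cancel_mono S.f).1
    refine (Category.assoc _ _ _).trans (Eq.trans ?_ (Category.assoc _ _ _).symm)
    have hn := (suppι U).naturality S.f
    refine Eq.trans (congrArg (a ≫ ·) hn.symm) (Eq.trans ?_ (congrArg (b ≫ ·) hn))
    rw [← Category.assoc, ← Category.assoc, hab]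
  haveI : Mono (S.map (LocCohZ.sectSuppF U)).f := hm
  have hlift : ∀ {T : CohTop.Ab X} (k : T ⟶ (LocCohZ.sectSuppF U).obj S.X₂),
      k ≫ (LocCohZ.sectSuppF U).map S.g = 0 → { l : T ⟶ (LocCohZ.sectSuppF U).obj S.X₁ // l ≫ (LocCohZ.sectSuppF U).map S.f = k } := by
    intro T k hk'
    have hn3 := (suppι U).naturality S.g
    obtain ⟨a, ha⟩ := KernelFork.IsLimit.lift' hS.exact.fIsKernel (k ≫ (suppι U).app S.X₂) (by
      refine (Category.assoc _ _ _).trans ((congrArg (k ≫ ·) hn3.symm).trans ?_)
      rw [← Category.assoc, hk', zero_comp])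
    have ha' : a ≫ S.f = k ≫ (suppι U).app S.X₂ := ha
    have hz : a ≫ (unitU U).app S.X₁ = 0 := by
      rw [← cancel_mono (P.map S.f), zero_comp, Category.assoc]
      refine (congrArg (a ≫ ·) ((unitU U).naturality S.f).symm).trans ?_
      rw [← Category.assoc]
      refine (congrArg (fun z => z ≫ (unitU U).app S.X₂) ha').trans ?_
      rw [Category.assoc, suppι_comp, comp_zero]
    refine ⟨kernel.lift _ a hz, ?_⟩
    apply (cancel_mono (kernel.ι ((unitU U).app S.X₂))).1
    refine (Category.assoc _ _ _).trans ((congrArg (kernel.lift _ a hz ≫ ·) ((suppι U).naturality S.f)).trans ?_)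
    refine (Category.assoc _ _ _).symm.trans ((congrArg (· ≫ S.f) (kernel.lift_ι _ _ _)).trans ha')
  exact ⟨ShortComplex.exact_of_f_is_kernel _ (KernelFork.IsLimit.ofι' _ _ fun k hk => hlift k hk), hm⟩

/-- The four-term sequence and the higher local cohomology sheaves. -/
theorem HZsh_iso :
    Nonempty (LocCohZ.HZsh U 1 ≅ cokernel (unitU U)) ∧
      ∀ i : ℕ, 1 ≤ i →
        Nonempty (LocCohZ.HZsh U (i + 1) ≅ CohTop.pull (CohCx.incl U) ⋙ CohTop.Rpush (CohCx.incl U) i) := by
  haveI : PreservesFiniteLimits (CohTop.pull (CohCx.incl U)) := SiteBase.preservesFiniteLimits_pull _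
  haveI : PreservesFiniteLimits (CohTop.push (CohCx.incl U)) := preservesFiniteLimits_push (CohCx.incl U)
  haveI : PreservesFiniteLimits (CohTop.pull (CohCx.incl U) ⋙ CohTop.push (CohCx.incl U)) := comp_preservesFiniteLimits _ _
  haveI : (CohTop.pull (CohCx.incl U)).Additive := additive_pull (CohCx.incl U)
  haveI : (CohTop.push (CohCx.incl U)).Additive := inferInstance
  haveI : (CohTop.pull (CohCx.incl U) ⋙ CohTop.push (CohCx.incl U)).Additive := inferInstance
  haveI : PreservesFiniteColimits (CohTop.pull (CohCx.incl U)) := preservesFiniteColimits_pull (CohCx.incl U)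
  have hη : ∀ F : CohTop.Ab X, Injective F → Epi ((unitU U).app F) := fun F hF => by
    haveI := SiteBase.isFlasque_of_injective F
    exact epi_unit_app U F
  refine ⟨SiteBase.nonempty_rightDerived_one_iso (suppι U) (unitU U) (suppι_comp U) (fun F => kernelIsKernel _) hη, fun q hq => ?_⟩
  obtain ⟨k, rfl⟩ : ∃ k, q = k + 1 := ⟨q - 1, by omega⟩
  obtain ⟨e⟩ := SiteBase.nonempty_rightDerived_succ_iso (suppι U) (unitU U) (suppι_comp U) (fun F => kernelIsKernel _) hη k
  exact ⟨e ≪≫ SiteBase.rightDerivedPrecompIso (CohTop.pull (CohCx.incl U)) (CohTop.push (CohCx.incl U)) (k + 1)⟩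

end Groth.Agent.LCZLib

end
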