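import Groth.Prelude.Def_SuppFam
import Groth.Agent.LCZLib.Open
import Groth.Agent.SiteBase.DerivedExt
import Groth.Agent.SiteBase.DerivedComp
import Groth.Agent.SiteBase.Rpush

/-!
# Sections with supports in a closed subset as morphisms out of `ℤ_W/ℤ_{U ⊓ W}`, and their derived functors
-/

set_option autoImplicit false
set_option linter.style.haveILetI false

universe u

open CategoryTheory CategoryTheory.Limits Opposite TopologicalSpace TopCat Topology

noncomputable section

namespace Groth.Agent.LCZLib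

variable {X : TopCat.{u}} (U : Opens X)

local notation "JX" => Opens.grothendieckTopology X

/-- The free sheaves with supports in the complement of `U`, as a functor of the open. -/
def PZ : Opens X ⥤ CohTop.Ab X where
  obj W := LocCohZ.zq (inf_le_right : U ⊓ W ≤ W)
  map {A B} f := LocCohZ.zqMap (inf_le_right : U ⊓ B ≤ B) (inf_le_right : U ⊓ A ≤ A)
    (inf_le_inf_left U (leOfHom f)) (leOfHom f)
  map_id A := SuppFam.zqMap_id _
  map_comp f g := (SuppFam.zqMap_comp _ _ _ _ _ _ _).symm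

/-- The sections of `Γ_Z F` inside those of `F`. -/
def incl (F : CohTop.Ab X) (W : Opens X) :
    ((LocCohZ.sectSuppF U).obj F).obj.obj (op W) →+ F.obj.obj (op W) :=
  ((kernel.ι ((unitU U).app F)).hom.app (op W)).hom

theorem incl_injective (F : CohTop.Ab X) (W : Opens X) : Function.Injective (incl U F W) :=
  SuppFamLib.kernel_ι_injective _ W

theorem range_incl (F : CohTop.Ab X) (W : Opens X) (s : F.obj.obj (op W)) :
    (∃ t, incl U F W t = s) ↔ F.obj.map (homOfLE (inf_le_right : U ⊓ W ≤ W)).op s = 0 :=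
  (SuppFamLib.exists_kernel_section_iff ((unitU U).app F) W s).trans
    (SuppFamLib.unit_app_eq_zero_iff U F W s)

theorem incl_res (F : CohTop.Ab X) {A B : Opens X} (f : A ⟶ B)
    (t : ((LocCohZ.sectSuppF U).obj F).obj.obj (op B)) :
    incl U F A (((LocCohZ.sectSuppF U).obj F).obj.map f.op t) = F.obj.map f.op (incl U F B t) :=
  ConcreteCategory.congr_hom ((kernel.ι ((unitU U).app F)).hom.naturality f.op) t

theorem incl_map {F G : CohTop.Ab X} (g : F ⟶ G) (W : Opens X)
    (t : ((LocCohZ.sectSuppF U).obj F).obj.obj (op W)) :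
    incl U G W ((((LocCohZ.sectSuppF U).map g).hom.app (op W)).hom t) = (g.hom.app (op W)).hom (incl U F W t) :=
  congrArg (fun a => (a.hom.app (op W)).hom t)
    (kernel.lift_ι ((unitU U).app G) _ _ : (LocCohZ.sectSuppF U).map g ≫ _ = _)

/-- A morphism out of `ℤ_W/ℤ_{U ⊓ W}` as a section. -/
def evz (F : CohTop.Ab X) (W : Opens X) : ((PZ U).obj W ⟶ F) →+ F.obj.obj (op W) :=
  (CohFree.evalGen JX W F).comp (Preadditive.leftComp F (cokernel.π _))

theorem evz_injective (F : CohTop.Ab X) (W : Opens X) : Function.Injective (evz U F W) := by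
  intro a b hab
  apply coequalizer.hom_ext
  exact (CohFree.homEquivSect JX W F).injective hab

theorem range_evz (F : CohTop.Ab X) (W : Opens X) (s : F.obj.obj (op W)) :
    (∃ φ, evz U F W φ = s) ↔ F.obj.map (homOfLE (inf_le_right : U ⊓ W ≤ W)).op s = 0 := by
  constructor
  · rintro ⟨φ, rfl⟩
    refine (CohFree.evalGen_freeSheafMap_comp JX (homOfLE (inf_le_right : U ⊓ W ≤ W)) F (cokernel.π _ ≫ φ)).symm.trans ?_
    exact (congrArg _ ((cokernel.condition_assoc _ _).trans zero_comp)).trans (map_zero _)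
  · intro hs
    have hz : CohCx.freeSheafMap JX (homOfLE (inf_le_right : U ⊓ W ≤ W)) ≫ CohFree.ofSect JX W F s = 0 := by
      apply (CohFree.homEquivSect JX (U ⊓ W) F).injective
      rw [map_zero, CohFree.homEquivSect_apply, CohFree.evalGen_freeSheafMap_comp, CohFree.evalGen_ofSect]
      exact hs
    refine ⟨cokernel.desc _ _ hz, ?_⟩
    refine (congrArg (CohFree.evalGen JX W F) (cokernel.π_desc _ _ hz)).trans ?_
    exact CohFree.evalGen_ofSect JX _ F s

theorem exists_eq (F : CohTop.Ab X) (W : Opens X) (φ : (PZ U).obj W ⟶ F) :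
    ∃ t, incl U F W t = evz U F W φ :=
  (range_incl U F W _).2 ((range_evz U F W _).1 ⟨φ, rfl⟩)

/-- Sections with supports are morphisms out of `ℤ_W/ℤ_{U ⊓ W}`. -/
def suppEquiv (F : CohTop.Ab X) (W : Opens X) :
    ((PZ U).obj W ⟶ F) ≃+ ((LocCohZ.sectSuppF U).obj F).obj.obj (op W) :=
  AddEquiv.ofBijective
    (AddMonoidHom.mk' (fun φ => (exists_eq U F W φ).choose) fun a b => incl_injective U F W
      ((exists_eq U F W (a + b)).choose_spec.trans ((map_add _ a b).trans (Eq.trans
        (congrArg₂ (· + ·) (exists_eq U F W a).choose_spec.symm (exists_eq U F W b).choose_spec.symm)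
        (map_add _ _ _).symm))))
    ⟨fun a b hab => evz_injective U F W (by
      rw [← (exists_eq U F W a).choose_spec, ← (exists_eq U F W b).choose_spec]
      exact congrArg (incl U F W) hab),
    fun t => by
      obtain ⟨φ, hφ⟩ := (range_evz U F W _).2 ((range_incl U F W _).1 ⟨t, rfl⟩)
      exact ⟨φ, incl_injective U F W ((exists_eq U F W φ).choose_spec.trans hφ)⟩⟩

theorem incl_suppEquiv (F : CohTop.Ab X) (W : Opens X) (φ : (PZ U).obj W ⟶ F) :
    incl U F W (suppEquiv U F W φ) = evz U F W φ :=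
  (exists_eq U F W φ).choose_spec

/-- `Γ_Z` as a presheaf valued functor is represented by the `ℤ_W/ℤ_{U ⊓ W}`. -/
def pres : SiteBase.HomPres (PZ U) (LocCohZ.sectSuppF U ⋙ sheafToPresheaf JX AddCommGrpCat.{u}) where
  σ F W := suppEquiv U F W
  σ_comp {F G} W φ g := incl_injective U G W (by
    refine (incl_suppEquiv U G W _).trans ?_
    refine Eq.trans ?_ (incl_map U g W _).symm
    rw [incl_suppEquiv]
    rfl)
  σ_map {F A B} f φ := incl_injective U F B (by
    refine (incl_suppEquiv U F B _).trans ?_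
    refine Eq.trans ?_ (incl_res U F f _).symm
    rw [incl_suppEquiv]
    refine Eq.trans ?_ (CohFree.evalGen_freeSheafMap_comp JX f F (cokernel.π _ ≫ φ))
    show CohFree.evalGen JX B F (cokernel.π _ ≫ LocCohZ.zqMap (inf_le_right : U ⊓ A ≤ A) (inf_le_right : U ⊓ B ≤ B) (inf_le_inf_left U (leOfHom f)) (leOfHom f) ≫ φ) = _
    refine congrArg (CohFree.evalGen JX B F) ?_
    exact (cokernel.π_desc_assoc _ _ _ _).trans (Category.assoc _ _ _))

/-- The presheaves `W ↦ H^q_{Z ∩ W}(W, F)`. -/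
abbrev hzPsh (q : ℕ) : CohTop.Ab X ⥤ (Opens X)ᵒᵖ ⥤ AddCommGrpCat.{u} :=
  SiteBase.HomPres.extPsh (PZ U) q

instance additive_s2p : (sheafToPresheaf JX AddCommGrpCat.{u}).Additive where

instance additive_sheafify : (presheafToSheaf JX AddCommGrpCat.{u}).Additive :=
  (sheafificationAdjunction JX AddCommGrpCat.{u}).left_adjoint_additive

/-- `R^q` of `Γ_Z` as presheaves. -/
def derivedPshIso (q : ℕ) :
    (LocCohZ.sectSuppF U ⋙ sheafToPresheaf JX AddCommGrpCat.{u}).rightDerived q ≅ hzPsh U q :=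
  (pres U).rightDerivedIso q

/-- The local cohomology sheaves are the sheafifications of the presheaves of cohomology with supports. -/
def HZshIso (q : ℕ) : LocCohZ.HZsh U q ≅ hzPsh U q ⋙ presheafToSheaf JX AddCommGrpCat.{u} :=
  SiteBase.rightDerivedCongr
      ((Functor.rightUnitor _).symm ≪≫
        Functor.isoWhiskerLeft _ (asIso (sheafificationAdjunction JX AddCommGrpCat.{u}).counit).symm ≪≫
        (Functor.associator _ _ _).symm) q ≪≫
    SiteBase.rightDerivedCompIso (LocCohZ.sectSuppF U ⋙ sheafToPresheaf JX AddCommGrpCat.{u})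
      (presheafToSheaf JX AddCommGrpCat.{u}) q ≪≫
    Functor.isoWhiskerRight (derivedPshIso U q) _

theorem zqMap_isIso {W V W' V' : Opens X} (h : W ≤ V) (h' : W' ≤ V') (hW : W' = W) (hV : V' = V) :
    IsIso (LocCohZ.zqMap h h' hW.le hV.le) := by
  subst hW; subst hV
  exact ⟨LocCohZ.zqMap h' h' le_rfl le_rfl, by rw [SuppFam.zqMap_comp, SuppFam.zqMap_id], by rw [SuppFam.zqMap_comp, SuppFam.zqMap_id]⟩

/-- `R^q Γ_Z(X, -) ≅ Ext^q(ℤ_Z, -)`. -/
def RHZIso (q : ℕ) : LocCohZ.RHZ U q ≅ ToposFin.HZFunctor (LocCohZ.openSh U) q :=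
  haveI := zqMap_isIso (le_top : U ≤ ⊤) (inf_le_right : U ⊓ ⊤ ≤ ⊤) (inf_top_eq U) rfl
  SiteBase.rightDerivedCongr (Functor.associator (LocCohZ.sectSuppF U) (sheafToPresheaf JX AddCommGrpCat.{u})
      ((evaluation (Opens X)ᵒᵖ AddCommGrpCat.{u}).obj (op ⊤))).symm q ≪≫
    SiteBase.rightDerivedCompIso (LocCohZ.sectSuppF U ⋙ sheafToPresheaf JX AddCommGrpCat.{u})
      ((evaluation (Opens X)ᵒᵖ AddCommGrpCat.{u}).obj (op ⊤)) q ≪≫
    Functor.isoWhiskerRight (derivedPshIso U q) _ ≪≫
    (NatIso.ofComponents (fun F => Iso.refl _) (fun f => (Category.comp_id _).trans (Category.id_comp _).symm) :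
      hzPsh U q ⋙ (evaluation (Opens X)ᵒᵖ AddCommGrpCat.{u}).obj (op ⊤) ≅
        (Abelian.extFunctor.{u} q).obj (op ((PZ U).obj ⊤))) ≪≫
    (Abelian.extFunctor.{u} q).mapIso ((asIso (LocCohZ.zqMap (le_top : U ≤ ⊤) (inf_le_right : U ⊓ ⊤ ≤ ⊤) (inf_top_eq U).le le_rfl) ≪≫
      LocCohZ.zqIsoQuotZ U).op).symm

end Groth.Agent.LCZLib

end
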