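import Groth.Agent.LCZLib.Seq
import Groth.Agent.LCZLib.Flasque
import Groth.Agent.SpObjSS.SiteLeray
import Groth.Agent.H9Misc.SupportsSS

/-!
# Spectral sequences of cohomology with supports
-/

set_option autoImplicit false
set_option linter.style.haveILetI false

universe u

open CategoryTheory CategoryTheory.Limits Opposite TopologicalSpace TopCat Topology Abelian
open Groth.Agent.SpObjSS Groth.Agent.TriCat

noncomputable section

namespace Groth.Agent.LCZLib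

variable {X Y : TopCat.{u}} (U : Opens X)

local notation "JX" => Opens.grothendieckTopology X

instance instIsoPZTop : IsIso (LocCohZ.zqMap (le_top : U ≤ ⊤) (inf_le_right : U ⊓ ⊤ ≤ ⊤) (inf_top_eq U).le le_rfl) :=
  zqMap_isIso (le_top : U ≤ ⊤) (inf_le_right : U ⊓ ⊤ ≤ ⊤) (inf_top_eq U) rfl

theorem evalGen_comp' {Z : TopCat.{u}} (W : Opens Z) {F G : CohTop.Ab Z}
    (φ : CohCx.freeSheaf (Opens.grothendieckTopology Z) W ⟶ F) (g : F ⟶ G) :
    CohFree.evalGen (Opens.grothendieckTopology Z) W G (φ ≫ g) =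
      (g.hom.app (op W)).hom (CohFree.evalGen (Opens.grothendieckTopology Z) W F φ) := rfl

/-- `Γ(X, Γ_Z -)` is `Hom(ℤ_X/ℤ_{U ⊓ X}, -)`. -/
def compHomIso₀ :
    LocCohZ.sectSuppF U ⋙ homFrom (CohCx.freeSheaf JX (⊤ : Opens X)) ≅ homFrom ((PZ U).obj ⊤) :=
  NatIso.ofComponents (fun F => AddEquiv.toAddCommGrpIso
      (((CohFree.homEquivSect JX (⊤ : Opens X) ((LocCohZ.sectSuppF U).obj F)).trans
        (suppEquiv U F ⊤).symm : (CohCx.freeSheaf JX (⊤ : Opens X) ⟶ (LocCohZ.sectSuppF U).obj F) ≃+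
          ((PZ U).obj ⊤ ⟶ F))))
    (fun {F G} f => by
      ext φ
      apply (suppEquiv U G ⊤).injective
      refine (AddEquiv.apply_symm_apply _ _).trans ?_
      refine Eq.trans ?_ ((pres U).σ_comp (X := F) (Y := G) ⊤ _ f).symm
      refine Eq.trans ?_ (congrArg (((LocCohZ.sectSuppF U).map f).hom.app (op ⊤)).hom (AddEquiv.apply_symm_apply _ _)).symm
      exact evalGen_comp' ⊤ φ ((LocCohZ.sectSuppF U).map f))

/-- `Γ(X, Γ_Z -)` is `Hom(ℤ_Z, -)`. -/
def compHomIso :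
    LocCohZ.sectSuppF U ⋙ homFrom (CohCx.freeSheaf JX (⊤ : Opens X)) ≅ homFrom (LocCohZ.zq (le_top : U ≤ ⊤)) :=
  compHomIso₀ U ≪≫ preadditiveCoyoneda.mapIso (asIso (LocCohZ.zqMap (le_top : U ≤ ⊤) (inf_le_right : U ⊓ ⊤ ≤ ⊤) (inf_top_eq U).le le_rfl)).op.symm

theorem exists_ss_local_to_global (F : CohTop.Ab X) :
    ∃ (E : E₂CohomologicalSpectralSequence AddCommGrpCat.{u})
      (a : SpSeq.Abutment E (fun n : ℤ =>
        if 0 ≤ n then AddCommGrpCat.of (LocCohZ.HZc F n.toNat U) else AddCommGrpCat.of PUnit.{u + 1})),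
      (∀ n : ℤ, a.IsFinite n) ∧ SpSeq.IsBounded E ∧
      ∀ p q : ℤ, Nonempty ((E.page 2 le_rfl).X (p, q) ≅
        (if 0 ≤ p ∧ 0 ≤ q then AddCommGrpCat.of (CohTop.HU ((LocCohZ.HZsh U q.toNat).obj F) p.toNat ⊤)
          else AddCommGrpCat.of PUnit.{u + 1})) := by
  refine exists_grothendieck_spectralSequence' (LocCohZ.sectSuppF U) (homFrom (CohCx.freeSheaf JX (⊤ : Opens X)))
    (fun Q hQ i hi => ?_) F
    (fun n => AddCommGrpCat.of (LocCohZ.HZc F n U))
    (fun n => ⟨(SiteBase.rightDerivedCongr (compHomIso U) n).app F ≪≫ rightDerivedHomFromIso _ n F⟩)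
    (fun p q => AddCommGrpCat.of (CohTop.HU ((LocCohZ.HZsh U q).obj F) p ⊤))
    (fun p q => ⟨rightDerivedHomFromIso _ p _⟩)
    _ (AddCommGrpCat.isZero_of_subsingleton _)
  obtain ⟨j, rfl⟩ := Nat.exists_eq_succ_of_ne_zero hi.ne'
  haveI : TopCat.Sheaf.IsFlasque Q := SiteBase.isFlasque_of_injective Q
  haveI : TopCat.Sheaf.IsFlasque ((LocCohZ.sectSuppF U).obj Q) := isFlasque_sectSuppF U Q
  refine IsZero.of_iso ?_ (rightDerivedHomFromIso _ (j + 1) _)
  exact @AddCommGrpCat.isZero_of_subsingleton _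
    (SiteBase.subsingleton_HU_of_isFlasque ((LocCohZ.sectSuppF U).obj Q) ⊤ j)

/-- A morphism out of `ℤ_V/ℤ_W` is a section vanishing on `W`. -/
def zqHomEquiv {W V : Opens X} (h : W ≤ V) (F : CohTop.Ab X) : (LocCohZ.zq h ⟶ F) ≃+ LocCohZ.sectZ F h :=
  (Ext.addEquiv₀ (X := LocCohZ.zq h) (Y := F)).symm.trans (LocCohZ.sect0Equiv F h)

theorem zqHomEquiv_val {W V : Opens X} (h : W ≤ V) (F : CohTop.Ab X) (φ : LocCohZ.zq h ⟶ F) :
    ((zqHomEquiv h F φ : LocCohZ.sectZ F h) : F.obj.obj (op V)) =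
      CohFree.evalGen JX V F (cokernel.π _ ≫ φ) := by
  show CohFree.evalGen JX V F (cokernel.π _ ≫ Ext.addEquiv₀ (Ext.addEquiv₀.symm φ)) = _
  rw [AddEquiv.apply_symm_apply]

variable (f : X ⟶ Y) (V : Opens Y)

/-- The sections of a direct image with supports. -/
def sectZPushEquiv (G : CohTop.Ab X) :
    LocCohZ.sectZ ((CohTop.push f).obj G) (le_top : V ≤ ⊤) ≃+
      LocCohZ.sectZ G (le_top : (Opens.map f).obj V ≤ ⊤) where
  toFun s := ⟨s.1, s.2⟩
  invFun s := ⟨s.1, s.2⟩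
  left_inv _ := rfl
  right_inv _ := rfl
  map_add' _ _ := rfl

/-- `Γ_{Z'}(Y, f_* -)` is `Γ_{f⁻¹ Z'}(X, -)`. -/
def pushHomIso :
    CohTop.push f ⋙ homFrom (LocCohZ.zq (le_top : V ≤ ⊤)) ≅
      homFrom (LocCohZ.zq (le_top : (Opens.map f).obj V ≤ ⊤)) :=
  NatIso.ofComponents (fun G => AddEquiv.toAddCommGrpIso
      ((((zqHomEquiv (le_top : V ≤ ⊤) ((CohTop.push f).obj G)).trans (sectZPushEquiv f V G)).trans
        (zqHomEquiv (le_top : (Opens.map f).obj V ≤ ⊤) G).symm) :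
        (LocCohZ.zq (le_top : V ≤ ⊤) ⟶ (CohTop.push f).obj G) ≃+
          (LocCohZ.zq (le_top : (Opens.map f).obj V ≤ ⊤) ⟶ G)))
    (fun {F G} g => by
      ext φ
      apply (zqHomEquiv (le_top : (Opens.map f).obj V ≤ ⊤) G).injective
      refine (AddEquiv.apply_symm_apply _ _).trans ?_
      apply Subtype.ext
      refine Eq.trans ?_ (zqHomEquiv_val (le_top : (Opens.map f).obj V ≤ ⊤) G _).symm
      refine (zqHomEquiv_val (le_top : V ≤ ⊤) ((CohTop.push f).obj G) _).trans ?_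
      refine (congrArg (CohFree.evalGen _ ⊤ _) (Category.assoc _ _ _).symm).trans ?_
      refine (evalGen_comp' ⊤ _ ((CohTop.push f).map g)).trans ?_
      refine Eq.trans ?_ ((congrArg (CohFree.evalGen JX ⊤ G) (Category.assoc _ _ _).symm).trans (evalGen_comp' ⊤ _ g)).symm
      refine congrArg (g.hom.app (op ⊤)).hom ?_
      refine Eq.trans ?_ (zqHomEquiv_val (le_top : (Opens.map f).obj V ≤ ⊤) F _)
      refine (zqHomEquiv_val (le_top : V ≤ ⊤) ((CohTop.push f).obj F) φ).symm.trans ?_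
      exact congrArg Subtype.val (AddEquiv.apply_symm_apply (zqHomEquiv (le_top : (Opens.map f).obj V ≤ ⊤) F)
        (sectZPushEquiv f V F (zqHomEquiv (le_top : V ≤ ⊤) ((CohTop.push f).obj F) φ))).symm)

theorem exists_ss_push (F : CohTop.Ab X) :
    ∃ (E : E₂CohomologicalSpectralSequence AddCommGrpCat.{u})
      (a : SpSeq.Abutment E (fun n : ℤ =>
        if 0 ≤ n then AddCommGrpCat.of (LocCohZ.HZc F n.toNat ((Opens.map f).obj V))
          else AddCommGrpCat.of PUnit.{u + 1})),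
      (∀ n : ℤ, a.IsFinite n) ∧ SpSeq.IsBounded E ∧
      ∀ p q : ℤ, Nonempty ((E.page 2 le_rfl).X (p, q) ≅
        (if 0 ≤ p ∧ 0 ≤ q then AddCommGrpCat.of (LocCohZ.HZc ((CohTop.Rpush f q.toNat).obj F) p.toNat V)
          else AddCommGrpCat.of PUnit.{u + 1})) := by
  exact exists_grothendieck_spectralSequence' (CohTop.push f) (homFrom (LocCohZ.zq (le_top : V ≤ ⊤)))
    (fun Q hQ => haveI := SiteBase.injective_push f Q; isRightAcyclic_of_injective _) F
    (fun n => AddCommGrpCat.of (LocCohZ.HZc F n ((Opens.map f).obj V)))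
    (fun n => ⟨(SiteBase.rightDerivedCongr (pushHomIso f V) n).app F ≪≫ rightDerivedHomFromIso _ n F⟩)
    (fun p q => AddCommGrpCat.of (LocCohZ.HZc ((CohTop.Rpush f q).obj F) p V))
    (fun p q => ⟨rightDerivedHomFromIso _ p _⟩)
    _ (AddCommGrpCat.isZero_of_subsingleton _)

end Groth.Agent.LCZLib

end
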